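import Cfsg.Agent.Lib.Calc.Model2
import Cfsg.Agent.Lib.Calc.Iso

/-!
# A presentation of the alternating group of degree 11
-/

set_option autoImplicit false
set_option maxRecDepth 1000000
set_option maxHeartbeats 0

namespace Cfsg.Lib.Big

open Cfsg.Lib.Calc

/-- Relators. -/
def altT11 : List W := [.pow (.l 1) 3, .pow (.l 3) 3, .pow (.l 5) 3, .pow (.l 7) 3, .pow (.l 9) 3, .pow (.l 11) 3, .pow (.l 13) 3, .pow (.l 15) 3, .pow (.l 17) 3, .pow (.mul (.l 1) (.l 3)) 2, .pow (.mul (.l 1) (.l 5)) 2, .pow (.mul (.l 1) (.l 7)) 2, .pow (.mul (.l 1) (.l 9)) 2, .pow (.mul (.l 1) (.l 11)) 2, .pow (.mul (.l 1) (.l 13)) 2, .pow (.mul (.l 1) (.l 15)) 2, .pow (.mul (.l 1) (.l 17)) 2, .pow (.mul (.l 3) (.l 5)) 2, .pow (.mul (.l 3) (.l 7)) 2, .pow (.mul (.l 3) (.l 9)) 2, .pow (.mul (.l 3) (.l 11)) 2, .pow (.mul (.l 3) (.l 13)) 2, .pow (.mul (.l 3) (.l 15)) 2, .pow (.mul (.l 3) (.l 17)) 2, .pow (.mul (.l 5) (.l 7)) 2, .pow (.mul (.l 5) (.l 9)) 2, .pow (.mul (.l 5) (.l 11)) 2,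 .pow (.mul (.l 5) (.l 13)) 2, .pow (.mul (.l 5) (.l 15)) 2, .pow (.mul (.l 5) (.l 17)) 2, .pow (.mul (.l 7) (.l 9)) 2, .pow (.mul (.l 7) (.l 11)) 2, .pow (.mul (.l 7) (.l 13)) 2, .pow (.mul (.l 7) (.l 15)) 2, .pow (.mul (.l 7) (.l 17)) 2, .pow (.mul (.l 9) (.l 11)) 2, .pow (.mul (.l 9) (.l 13)) 2, .pow (.mul (.l 9) (.l 15)) 2, .pow (.mul (.l 9) (.l 17)) 2, .pow (.mul (.l 11) (.l 13)) 2, .pow (.mul (.l 11) (.l 15)) 2, .pow (.mul (.l 11) (.l 17)) 2, .pow (.mul (.l 13) (.l 15)) 2, .pow (.mul (.l 13) (.l 17)) 2, .pow (.mul (.l 15) (.l 17)) 2]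
/-- Inverses. -/
def altI11 : ℕ := nat_lit 21760076167478396255156175936
def alt110_rels : List W := [.pow (.l 1) 3, .pow (.l 3) 3, .pow (.l 5) 3, .pow (.l 7) 3, .pow (.l 9) 3, .pow (.l 11) 3, .pow (.l 13) 3, .pow (.l 15) 3, .pow (.l 17) 3, .pow (.mul (.l 1) (.l 3)) 2, .pow (.mul (.l 1) (.l 5)) 2, .pow (.mul (.l 1) (.l 7)) 2, .pow (.mul (.l 1) (.l 9)) 2, .pow (.mul (.l 1) (.l 11)) 2, .pow (.mul (.l 1) (.l 13)) 2, .pow (.mul (.l 1) (.l 15)) 2, .pow (.mul (.l 1) (.l 17)) 2, .pow (.mul (.l 3) (.l 5)) 2, .pow (.mul (.l 3) (.l 7)) 2, .pow (.mul (.l 3) (.l 9)) 2, .pow (.mul (.l 3) (.l 11)) 2, .pow (.mul (.l 3) (.l 13)) 2, .pow (.mul (.l 3) (.l 15)) 2, .pow (.mul (.l 3) (.l 17)) 2, .pow (.mul (.l 5) (.l 7)) 2, .pow (.mul (.l 5) (.l 9)) 2, .pow (.mul (.l 5) (.l 11)) 2, .pow (.mul (.l 5) (.l 13)) 2, .pow (.mul (.l 5) (.l 15)) 2, .pow (.mul (.l 5) (.l 17)) 2, .pow (.mul (.l 7) (.l 9)) 2, .pow (.mul (.l 7) (.l 11)) 2, .pow (.mul (.l 7) (.l 13)) 2, .pow (.mul (.l 7) (.l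 15)) 2, .pow (.mul (.l 7) (.l 17)) 2, .pow (.mul (.l 9) (.l 11)) 2, .pow (.mul (.l 9) (.l 13)) 2, .pow (.mul (.l 9) (.l 15)) 2, .pow (.mul (.l 9) (.l 17)) 2, .pow (.mul (.l 11) (.l 13)) 2, .pow (.mul (.l 11) (.l 15)) 2, .pow (.mul (.l 11) (.l 17)) 2, .pow (.mul (.l 13) (.l 15)) 2, .pow (.mul (.l 13) (.l 17)) 2, .pow (.mul (.l 15) (.l 17)) 2]
def alt110_F : Tr := .leaf (nat_lit 0x95469d4da652e9549a451e8d45a250e8541a853ca531984be592b954a65127934964923914865d2d29446210f8743615098441e0d058240e05018642ca4f1783bddced763add0e773395c8e371385d4e929345a0cf6733598cb653258cc56230d84c16431ca4b1582bd5cad562ad54a95429d48a3512854ca529245208f47235188b4522510874321504814220ca471381bcdc6d361acd4693419ccc653218cc4612813c5c4d1612c54491411c4c451210c444119144600f07034180b050241007030140803010041f5016cb8570c14ba84ec812a984684109886252090c400000)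
def alt110_T : Tr := .leaf (nat_lit 11649936536080)
def alt110_P : Tr := .node (.node (.leaf (nat_lit 0x5c300b002195c2e0b002185c2a0b000115c280b0000a2c0b000024a2609002174a3609002164a3409002154a3209002144a3009002134a2e09002124a2c09002114a2809000092a0900001382607002103836070020f3834070020e3832070020d3830070020c382e070020b382c070020a382a07002092807000000224050002c0222050002b02200500029021e0500026021c0500022021a050001d0218050001702160500010020500008))
  (.leaf (nat_lit 0x1ff001ff001ff001ff001ff001ff001ff001ff001ff001ff001ff001ff001ff001ff001ffb626150022cb634150002ab6321500028b6301500025b62e1500021b62c150001cb62a1500016b628150000f361500007a426130022ba436130022aa4321300027a4301300024a42e1300020a42c130001ba42a1300015a428130000e)))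
  (.leaf (nat_lit 0x34130000692261100229923611002289234110022792301100023922e110001f922c110001a922a11000149228110000d32110000580260f0022680360f0022580340f0022480320f00223802e0f0001e802c0f00019802a0f0001380280f0000c300f000046e260d002226e360d002216e340d002206e320d0021f6e300d0021e6e2c0d000186e2a0d000126e280d0000b2e0d000035c260b0021d5c360b0021c5c340b0021b5c320b0021a))
def alt110_N_0 : Tr := .node (.node (.node (.node (.leaf (nat_lit 1057))
  (.leaf (nat_lit 263)))
  (.node (.leaf (nat_lit 433575))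
  (.leaf (nat_lit 562))))
  (.node (.node (.leaf (nat_lit 558625))
  (.leaf (nat_lit 11276)))
  (.leaf (nat_lit 34))))
  (.node (.node (.node (.leaf (nat_lit 17969))
  (.leaf (nat_lit 298)))
  (.leaf (nat_lit 503275)))
  (.node (.node (.leaf (nat_lit 234725))
  (.leaf (nat_lit 527)))
  (.leaf (nat_lit 3076))))
def alt110_N_1 : Tr := .node (.node (.node (.node (.leaf (nat_lit 9513))
  (.leaf (nat_lit 7176)))
  (.node (.leaf (nat_lit 435625))
  (.leaf (nat_lit 0))))
  (.node (.node (.leaf (nat_lit 363875))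
  (.leaf (nat_lit 430)))
  (.leaf (nat_lit 131))))
  (.node (.node (.node (.leaf (nat_lit 296225))
  (.leaf (nat_lit 395)))
  (.leaf (nat_lit 572975)))
  (.node (.node (.leaf (nat_lit 497125))
  (.leaf (nat_lit 15376)))
  (.leaf (nat_lit 166))))
def alt110_N_2 : Tr := .node (.node (.node (.node (.leaf (nat_lit 5285))
  (.leaf (nat_lit 232)))
  (.node (.leaf (nat_lit 564775))
  (.leaf (nat_lit 17426))))
  (.node (.node (.leaf (nat_lit 232675))
  (.leaf (nat_lit 461)))
  (.leaf (nat_lit 1026))))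
  (.node (.node (.node (.leaf (nat_lit 165025))
  (.leaf (nat_lit 9226)))
  (.leaf (nat_lit 505325)))
  (.node (.node (.leaf (nat_lit 365925))
  (.leaf (nat_lit 496)))
  (.leaf (nat_lit 197))))
def alt110_N_3 : Tr := .node (.node (.node (.node (.leaf (nat_lit 13741))
  (.leaf (nat_lit 329)))
  (.leaf (nat_lit 566825)))
  (.node (.node (.leaf (nat_lit 495075))
  (.leaf (nat_lit 13326)))
  (.leaf (nat_lit 100))))
  (.node (.node (.node (.leaf (nat_lit 427425))
  (.leaf (nat_lit 364)))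
  (.leaf (nat_lit 65)))
  (.node (.node (.leaf (nat_lit 302375))
  (.leaf (nat_lit 593)))
  (.leaf (nat_lit 5126))))
def alt110_N_4 : Tr := .node (.node (.node (.node (.leaf (nat_lit 3171))
  (.leaf (nat_lit 8199)))
  (.node (.leaf (nat_lit 499175))
  (.leaf (nat_lit 562))))
  (.node (.node (.leaf (nat_lit 167075))
  (.leaf (nat_lit 461)))
  (.leaf (nat_lit 34))))
  (.node (.node (.node (.leaf (nat_lit 99425))
  (.leaf (nat_lit 298)))
  (.leaf (nat_lit 568875)))
  (.node (.node (.leaf (nat_lit 300325))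
  (.leaf (nat_lit 16399)))
  (.leaf (nat_lit 197))))
def alt110_N_5 : Tr := .node (.node (.node (.node (.leaf (nat_lit 11627))
  (.leaf (nat_lit 329)))
  (.leaf (nat_lit 501225)))
  (.node (.node (.leaf (nat_lit 429475))
  (.leaf (nat_lit 430)))
  (.leaf (nat_lit 4099))))
  (.node (.node (.node (.leaf (nat_lit 361825))
  (.leaf (nat_lit 12299)))
  (.leaf (nat_lit 65)))
  (.node (.node (.leaf (nat_lit 562725))
  (.leaf (nat_lit 593)))
  (.leaf (nat_lit 166))))
def alt110_N_6 : Tr := .node (.node (.node (.node (.leaf (nat_lit 7399))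
  (.leaf (nat_lit 232)))
  (.node (.leaf (nat_lit 370025))
  (.leaf (nat_lit 0))))
  (.node (.node (.leaf (nat_lit 298275))
  (.leaf (nat_lit 14349)))
  (.leaf (nat_lit 131))))
  (.node (.node (.node (.leaf (nat_lit 230625))
  (.leaf (nat_lit 395)))
  (.leaf (nat_lit 570925)))
  (.node (.node (.leaf (nat_lit 431525))
  (.leaf (nat_lit 496)))
  (.leaf (nat_lit 6149))))
def alt110_N_7 : Tr := .node (.node (.node (.node (.leaf (nat_lit 15855))
  (.leaf (nat_lit 10249)))
  (.leaf (nat_lit 437675)))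
  (.node (.node (.leaf (nat_lit 560675))
  (.leaf (nat_lit 527)))
  (.leaf (nat_lit 100))))
  (.node (.node (.node (.leaf (nat_lit 493025))
  (.leaf (nat_lit 364)))
  (.leaf (nat_lit 2049)))
  (.node (.node (.leaf (nat_lit 367975))
  (.leaf (nat_lit 18449)))
  (.leaf (nat_lit 263))))
def alt110_N : Tr := .node (.node (.node alt110_N_0
  alt110_N_1)
  (.node alt110_N_2
  alt110_N_3))
  (.node (.node alt110_N_4
  alt110_N_5)
  (.node alt110_N_6
  alt110_N_7))
noncomputable def alt110 : TC :=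
  ⟨[.l 0, .l 1, .l 2, .l 3, .l 4, .l 5, .l 6, .l 7, .l 8, .l 9, .l 10, .l 11, .l 12, .l 13, .l 14, .l 15, .l 16, .l 17, .l 18],
    (nat_lit 4), (nat_lit 8), (nat_lit 0x464f835cb62547414c320440), (nat_lit 43691), (nat_lit 11), (nat_lit 8), (nat_lit 32), (nat_lit 3), (nat_lit 101),
    get (nat_lit 10) (nat_lit 0x400c0400c02010030080400c02010030080400c02010030080400c02010030080400c02010030080400c02010030080400c02010030080400c02010030080400c02010030080401004010040100401004010040100401004010040100401004010040100401004010040100401004010040100300c0300c0300c0300c03), Tr.get alt110_N, get (nat_lit 20) (nat_lit 0x3ff003ff003ff003ff003ff003ff003ff003ff003ff003ff003ff003ff003ff003ff003ff003ff003ff003ff003ff003ff003ff003ff003ff003ff003ff003ff003ff003ff003ff003ff003ff003ff003ff003ff003ff003ff003ff003ff003ff003ff003ff003ff003ff003ff003ff003ff003ff003ff003ff003ff003ff003ff003ff003ff003ff003ff0002c0002b0002a000290002800027000260002500024000230002200021000200001f0001e0001d0001c0001b0001a000190001800017000160001500014000130001200011000100000f0000e0000d0000c0000b0000a00009000080000700006000050000400003000020000100000),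
    Tr.get3 alt110_F (nat_lit 18) (nat_lit 5), Tr.get3 alt110_T (nat_lit 4) (nat_lit 7), Tr.get alt110_P⟩

theorem alt110_head : alt110.headOK alt110_rels altI11 = true := by decide +kernel

theorem alt110_b0 : allFrom (nat_lit 0) (nat_lit 3) alt110.blockOK = true := by decide +kernel

def alt110_Q17 : Tr := .leaf (nat_lit 0xc6b4a2907e6c5a48052602)
theorem alt110_f17_0 : allFrom (nat_lit 0) (nat_lit 11) (alt110.finOK (nat_lit 11) (Tr.get3 alt110_Q17 (nat_lit 8) (nat_lit 6)) (nat_lit 17)) = true := by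
  decide +kernel

def alt110_Q15 : Tr := .leaf (nat_lit 0x15b2a08e7c6a5846b63624)
theorem alt110_f15_0 : allFrom (nat_lit 0) (nat_lit 11) (alt110.finOK (nat_lit 11) (Tr.get3 alt110_Q15 (nat_lit 8) (nat_lit 6)) (nat_lit 15)) = true := by
  decide +kernel

def alt110_Q13 : Tr := .leaf (nat_lit 0xc4139e8c7a685644a43422)
theorem alt110_f13_0 : allFrom (nat_lit 0) (nat_lit 11) (alt110.finOK (nat_lit 11) (Tr.get3 alt110_Q13 (nat_lit 8) (nat_lit 6)) (nat_lit 13)) = true := by
  decide +kernel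

def alt110_Q11 : Tr := .leaf (nat_lit 0xc2b0118a78665442923220)
theorem alt110_f11_0 : allFrom (nat_lit 0) (nat_lit 11) (alt110.finOK (nat_lit 11) (Tr.get3 alt110_Q11 (nat_lit 8) (nat_lit 6)) (nat_lit 11)) = true := by
  decide +kernel

def alt110_Q9 : Tr := .leaf (nat_lit 0xc0ae9c0f7664524080301e)
theorem alt110_f9_0 : allFrom (nat_lit 0) (nat_lit 11) (alt110.finOK (nat_lit 11) (Tr.get3 alt110_Q9 (nat_lit 8) (nat_lit 6)) (nat_lit 9)) = true := by
  decide +kernel

def alt110_Q7 : Tr := .leaf (nat_lit 0xbeac9a880d62503e6e2e1c)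
theorem alt110_f7_0 : allFrom (nat_lit 0) (nat_lit 11) (alt110.finOK (nat_lit 11) (Tr.get3 alt110_Q7 (nat_lit 8) (nat_lit 6)) (nat_lit 7)) = true := by
  decide +kernel

def alt110_Q5 : Tr := .leaf (nat_lit 0xbcaa9886740b4e3c5c2c1a)
theorem alt110_f5_0 : allFrom (nat_lit 0) (nat_lit 11) (alt110.finOK (nat_lit 11) (Tr.get3 alt110_Q5 (nat_lit 8) (nat_lit 6)) (nat_lit 5)) = true := by
  decide +kernel

def alt110_Q3 : Tr := .leaf (nat_lit 0xbaa896847260093a4a2a18)
theorem alt110_f3_0 : allFrom (nat_lit 0) (nat_lit 11) (alt110.finOK (nat_lit 11) (Tr.get3 alt110_Q3 (nat_lit 8) (nat_lit 6)) (nat_lit 3)) = true := by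
  decide +kernel

def alt110_Q1 : Tr := .leaf (nat_lit 0xb8a69482705e4c07382816)
theorem alt110_f1_0 : allFrom (nat_lit 0) (nat_lit 11) (alt110.finOK (nat_lit 11) (Tr.get3 alt110_Q1 (nat_lit 8) (nat_lit 6)) (nat_lit 1)) = true := by
  decide +kernel

theorem alt110_blocks : ∀ t < alt110.k, alt110.blockOK t = true :=
  (of_allFrom_append of_lt_zero alt110_b0)

/-- index 11 max 11 total 11 facts 100 | needed cosets 11 facts 100 steps 234 trivial 0 -/
theorem alt110_index {G : Type*} [Group G] {γ : ℕ → G} (hL : Lab γ altI11) (hr : ∀ t ∈ alt110_rels, t.ev γ = 1) {K : Subgroup G}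
    (hK : ∀ t ∈ ([.l 1, .l 3, .l 5, .l 7, .l 9, .l 11, .l 13, .l 15] : List W), t.ev γ ∈ K) :
    K.relIndex (genW γ [.l 1, .l 3, .l 5, .l 7, .l 9, .l 11, .l 13, .l 15, .l 17]) ≠ 0 ∧ K.relIndex (genW γ [.l 1, .l 3, .l 5, .l 7, .l 9, .l 11, .l 13, .l 15, .l 17]) ≤ 11 :=
  TC.relIndex_le (D := alt110) (gens := [1, 3, 5, 7, 9, 11, 13, 15, 17]) hL (List.forall_mem_cons.2 ⟨hL.zero_mem K, hK⟩) hr alt110_head alt110_blocks (by decide) (by decide)
   (List.forall_mem_cons.2 ⟨⟨_, (of_allFrom_append of_lt_zero alt110_f1_0)⟩,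
    List.forall_mem_cons.2 ⟨⟨_, (of_allFrom_append of_lt_zero alt110_f3_0)⟩,
    List.forall_mem_cons.2 ⟨⟨_, (of_allFrom_append of_lt_zero alt110_f5_0)⟩,
    List.forall_mem_cons.2 ⟨⟨_, (of_allFrom_append of_lt_zero alt110_f7_0)⟩,
    List.forall_mem_cons.2 ⟨⟨_, (of_allFrom_append of_lt_zero alt110_f9_0)⟩,
    List.forall_mem_cons.2 ⟨⟨_, (of_allFrom_append of_lt_zero alt110_f11_0)⟩,
    List.forall_mem_cons.2 ⟨⟨_, (of_allFrom_append of_lt_zero alt110_f13_0)⟩,
    List.forall_mem_cons.2 ⟨⟨_, (of_allFrom_append of_lt_zero alt110_f15_0)⟩,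
    List.forall_mem_cons.2 ⟨⟨_, (of_allFrom_append of_lt_zero alt110_f17_0)⟩,
    fun _ h => absurd h List.not_mem_nil⟩⟩⟩⟩⟩⟩⟩⟩⟩)

def alt111_rels : List W := [.pow (.l 1) 3, .pow (.l 3) 3, .pow (.l 5) 3, .pow (.l 7) 3, .pow (.l 9) 3, .pow (.l 11) 3, .pow (.l 13) 3, .pow (.l 15) 3, .pow (.mul (.l 1) (.l 3)) 2, .pow (.mul (.l 1) (.l 5)) 2, .pow (.mul (.l 1) (.l 7)) 2, .pow (.mul (.l 1) (.l 9)) 2, .pow (.mul (.l 1) (.l 11)) 2, .pow (.mul (.l 1) (.l 13)) 2, .pow (.mul (.l 1) (.l 15)) 2, .pow (.mul (.l 3) (.l 5)) 2, .pow (.mul (.l 3) (.l 7)) 2, .pow (.mul (.l 3) (.l 9)) 2, .pow (.mul (.l 3) (.l 11)) 2, .pow (.mul (.l 3) (.l 13)) 2, .pow (.mul (.l 3) (.l 15)) 2, .pow (.mul (.l 5) (.l 7)) 2, .pow (.mul (.l 5) (.l 9)) 2, .pow (.mul (.l 5) (.l 11)) 2, .pow (.mul (.l 5) (.l 13)) 2, .pow (.mul (.l 5) (.l 15)) 2, .pow (.mul (.l 7) (.l 9)) 2, .pow (.mul (.l 7) (.l 11)) 2, .pow (.mul (.l 7) (.l 13)) 2, .pow (.mul (.l 7) (.l 15)) 2, .pow (.mul (.l 9) (.l 11)) 2, .pow (.mul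 (.l 9) (.l 13)) 2, .pow (.mul (.l 9) (.l 15)) 2, .pow (.mul (.l 11) (.l 13)) 2, .pow (.mul (.l 11) (.l 15)) 2, .pow (.mul (.l 13) (.l 15)) 2]
def alt111_F : Tr := .leaf (nat_lit 0x212f964ae55299449e4d259248e4521974b4a10f8743615098441e0d058240e05018642ca0ef773b5d8eb7439dcce57238dc4e1753a4a0cf6733598cb653258cc56230d84c16431ca0af572b558ab552a550a75228d44a153294a08f47235188b4522510874321504814220ca06f371b4d86b351a4d06733194c863311849c4d1612c54491411c4c451210c44411813c5c0d0602c14090401c0c050200c040106cb8570c14ba84ec812a984684109885e50080bc00000)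
def alt111_T : Tr := .leaf (nat_lit 654820258320)
def alt111_P : Tr := .node (.leaf (nat_lit 0x52220b0021952300b00218522e0b00217522c0b00216522a0b0021552260b0000f52240b00009280b000024222090021442300900213422e0900212422c0900211422a09002104228090020f422409000082609000013222070020e3230070020d322e070020c322c070020b322a070020a322807002093226070020824070000002200500023021e0500022021c0500020021a050001d02180500019021605000140214050000e020500007))
  (.leaf (nat_lit 0x92221300223922e1300021922c130001f922a130001c92281300018922613000139224130000d3013000068222110022282301100221822c110001e822a110001b82281100017822611000128224110000c2e110000572220f0022072300f0021f722e0f0021e722a0f0001a72280f0001672260f0001172240f0000b2c0f0000462220d0021d62300d0021c622e0d0021b622c0d0021a62280d0001562260d0001062240d0000a2a0d00003))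
def alt111_N_0 : Tr := .node (.node (.node (.node (.leaf (nat_lit 1057))
  (.leaf (nat_lit 298)))
  (.leaf (nat_lit 501225)))
  (.node (.node (.leaf (nat_lit 232675))
  (.leaf (nat_lit 16399)))
  (.leaf (nat_lit 197))))
  (.node (.node (.node (.leaf (nat_lit 99425))
  (.leaf (nat_lit 461)))
  (.leaf (nat_lit 34)))
  (.node (.node (.leaf (nat_lit 431525))
  (.leaf (nat_lit 562)))
  (.leaf (nat_lit 8199))))
def alt111_N_1 : Tr := .node (.node (.node (.node (.leaf (nat_lit 9513))
  (.leaf (nat_lit 12299)))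
  (.leaf (nat_lit 65)))
  (.node (.node (.leaf (nat_lit 495075))
  (.leaf (nat_lit 593)))
  (.leaf (nat_lit 166))))
  (.node (.node (.node (.leaf (nat_lit 361825))
  (.leaf (nat_lit 430)))
  (.leaf (nat_lit 4099)))
  (.node (.leaf (nat_lit 433575))
  (.leaf (nat_lit 329))))
def alt111_N_2 : Tr := .node (.node (.node (.node (.leaf (nat_lit 5285))
  (.leaf (nat_lit 395)))
  (.leaf (nat_lit 503275)))
  (.node (.node (.leaf (nat_lit 363875))
  (.leaf (nat_lit 496)))
  (.leaf (nat_lit 6149))))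
  (.node (.node (.node (.leaf (nat_lit 230625))
  (.leaf (nat_lit 14349)))
  (.leaf (nat_lit 131)))
  (.node (.node (.leaf (nat_lit 302375))
  (.leaf (nat_lit 0)))
  (.leaf (nat_lit 232))))
def alt111_N_3 : Tr := .node (.node (.node (.node (.leaf (nat_lit 13741))
  (.leaf (nat_lit 364)))
  (.leaf (nat_lit 2049)))
  (.node (.node (.leaf (nat_lit 300325))
  (.leaf (nat_lit 18449)))
  (.leaf (nat_lit 263))))
  (.node (.node (.node (.leaf (nat_lit 493025))
  (.leaf (nat_lit 527)))
  (.leaf (nat_lit 100)))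
  (.node (.leaf (nat_lit 370025))
  (.leaf (nat_lit 10249))))
def alt111_N_4 : Tr := .node (.node (.node (.node (.leaf (nat_lit 3171))
  (.leaf (nat_lit 9226)))
  (.leaf (nat_lit 437675)))
  (.node (.node (.leaf (nat_lit 298275))
  (.leaf (nat_lit 496)))
  (.leaf (nat_lit 197))))
  (.node (.node (.node (.leaf (nat_lit 165025))
  (.leaf (nat_lit 461)))
  (.leaf (nat_lit 1026)))
  (.node (.node (.leaf (nat_lit 497125))
  (.leaf (nat_lit 17426)))
  (.leaf (nat_lit 232))))
def alt111_N_5 : Tr := .node (.node (.node (.node (.leaf (nat_lit 11627))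
  (.leaf (nat_lit 364)))
  (.leaf (nat_lit 65)))
  (.node (.node (.leaf (nat_lit 234725))
  (.leaf (nat_lit 593)))
  (.leaf (nat_lit 5126))))
  (.node (.node (.node (.leaf (nat_lit 427425))
  (.leaf (nat_lit 13326)))
  (.leaf (nat_lit 100)))
  (.node (.leaf (nat_lit 499175))
  (.leaf (nat_lit 329))))
def alt111_N_6 : Tr := .node (.node (.node (.node (.leaf (nat_lit 7399))
  (.leaf (nat_lit 395)))
  (.leaf (nat_lit 505325)))
  (.node (.node (.leaf (nat_lit 429475))
  (.leaf (nat_lit 15376)))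
  (.leaf (nat_lit 166))))
  (.node (.node (.node (.leaf (nat_lit 296225))
  (.leaf (nat_lit 430)))
  (.leaf (nat_lit 131)))
  (.node (.node (.leaf (nat_lit 367975))
  (.leaf (nat_lit 0)))
  (.leaf (nat_lit 7176))))
def alt111_N_7 : Tr := .node (.node (.node (.node (.leaf (nat_lit 15855))
  (.leaf (nat_lit 11276)))
  (.leaf (nat_lit 34)))
  (.node (.node (.leaf (nat_lit 365925))
  (.leaf (nat_lit 562)))
  (.leaf (nat_lit 263))))
  (.node (.node (.node (.leaf (nat_lit 167075))
  (.leaf (nat_lit 527)))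
  (.leaf (nat_lit 3076)))
  (.node (.leaf (nat_lit 435625))
  (.leaf (nat_lit 298))))
def alt111_N : Tr := .node (.node (.node alt111_N_0
  alt111_N_1)
  (.node alt111_N_2
  alt111_N_3))
  (.node (.node alt111_N_4
  alt111_N_5)
  (.node alt111_N_6
  alt111_N_7))
noncomputable def alt111 : TC :=
  ⟨[.l 0, .l 1, .l 2, .l 3, .l 4, .l 5, .l 6, .l 7, .l 8, .l 9, .l 10, .l 11, .l 12, .l 13, .l 14, .l 15, .l 16, .l 17, .l 18],
    (nat_lit 4), (nat_lit 8), (nat_lit 0x464f835cb62547414c320440), (nat_lit 10923), (nat_lit 10), (nat_lit 7), (nat_lit 32), (nat_lit 2), (nat_lit 92),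
    get (nat_lit 10) (nat_lit 0x1003010030080400c02010030080400c02010030080400c02010030080400c02010030080400c02010030080400c02010030080400c02010030080400c02010030080400c02010040100401004010040100401004010040100401004010040100401004010040100400c0300c0300c0300c03), Tr.get alt111_N, get (nat_lit 20) (nat_lit 0x3ff003ff003ff003ff003ff003ff003ff003ff003ff003ff003ff003ff003ff003ff003ff003ff003ff003ff003ff003ff003ff003ff003ff003ff003ff003ff003ff003ff003ff003ff003ff003ff003ff003ff003ff003ff003ff003ff003ff003ff003ff003ff003ff003ff003ff003ff003ff003ff003ff003ff003ff003ff003ff003ff003ff003ff000230002200021000200001f0001e0001d0001c0001b0001a000190001800017000160001500014000130001200011000100000f0000e0000d0000c0000b0000a00009000080000700006000050000400003000020000100000),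
    Tr.get3 alt111_F (nat_lit 18) (nat_lit 5), Tr.get3 alt111_T (nat_lit 4) (nat_lit 7), Tr.get alt111_P⟩

theorem alt111_head : alt111.headOK alt111_rels altI11 = true := by decide +kernel

theorem alt111_b0 : allFrom (nat_lit 0) (nat_lit 2) alt111.blockOK = true := by decide +kernel

def alt111_Q15 : Tr := .leaf (nat_lit 0xa0908070605040052202)
theorem alt111_f15_0 : allFrom (nat_lit 0) (nat_lit 10) (alt111.finOK (nat_lit 10) (Tr.get3 alt111_Q15 (nat_lit 8) (nat_lit 6)) (nat_lit 15)) = true := by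
  decide +kernel

def alt111_Q13 : Tr := .leaf (nat_lit 0x138e7e6e5e4e3e923020)
theorem alt111_f13_0 : allFrom (nat_lit 0) (nat_lit 10) (alt111.finOK (nat_lit 10) (Tr.get3 alt111_Q13 (nat_lit 8) (nat_lit 6)) (nat_lit 13)) = true := by
  decide +kernel

def alt111_Q11 : Tr := .leaf (nat_lit 0x9e117c6c5c4c3c822e1e)
theorem alt111_f11_0 : allFrom (nat_lit 0) (nat_lit 10) (alt111.finOK (nat_lit 10) (Tr.get3 alt111_Q11 (nat_lit 8) (nat_lit 6)) (nat_lit 11)) = true := by
  decide +kernel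

def alt111_Q9 : Tr := .leaf (nat_lit 0x9c8c0f6a5a4a3a722c1c)
theorem alt111_f9_0 : allFrom (nat_lit 0) (nat_lit 10) (alt111.finOK (nat_lit 10) (Tr.get3 alt111_Q9 (nat_lit 8) (nat_lit 6)) (nat_lit 9)) = true := by
  decide +kernel

def alt111_Q7 : Tr := .leaf (nat_lit 0x9a8a7a0d584838622a1a)
theorem alt111_f7_0 : allFrom (nat_lit 0) (nat_lit 10) (alt111.finOK (nat_lit 10) (Tr.get3 alt111_Q7 (nat_lit 8) (nat_lit 6)) (nat_lit 7)) = true := by
  decide +kernel

def alt111_Q5 : Tr := .leaf (nat_lit 0x988878680b4636522818)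
theorem alt111_f5_0 : allFrom (nat_lit 0) (nat_lit 10) (alt111.finOK (nat_lit 10) (Tr.get3 alt111_Q5 (nat_lit 8) (nat_lit 6)) (nat_lit 5)) = true := by
  decide +kernel

def alt111_Q3 : Tr := .leaf (nat_lit 0x96867666560934422616)
theorem alt111_f3_0 : allFrom (nat_lit 0) (nat_lit 10) (alt111.finOK (nat_lit 10) (Tr.get3 alt111_Q3 (nat_lit 8) (nat_lit 6)) (nat_lit 3)) = true := by
  decide +kernel

def alt111_Q1 : Tr := .leaf (nat_lit 0x94847464544407322414)
theorem alt111_f1_0 : allFrom (nat_lit 0) (nat_lit 10) (alt111.finOK (nat_lit 10) (Tr.get3 alt111_Q1 (nat_lit 8) (nat_lit 6)) (nat_lit 1)) = true := by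
  decide +kernel

theorem alt111_blocks : ∀ t < alt111.k, alt111.blockOK t = true :=
  (of_allFrom_append of_lt_zero alt111_b0)

/-- index 10 max 10 total 10 facts 81 | needed cosets 10 facts 81 steps 184 trivial 0 -/
theorem alt111_index {G : Type*} [Group G] {γ : ℕ → G} (hL : Lab γ altI11) (hr : ∀ t ∈ alt111_rels, t.ev γ = 1) {K : Subgroup G}
    (hK : ∀ t ∈ ([.l 1, .l 3, .l 5, .l 7, .l 9, .l 11, .l 13] : List W), t.ev γ ∈ K) :
    K.relIndex (genW γ [.l 1, .l 3, .l 5, .l 7, .l 9, .l 11, .l 13, .l 15]) ≠ 0 ∧ K.relIndex (genW γ [.l 1, .l 3, .l 5, .l 7, .l 9, .l 11, .l 13, .l 15]) ≤ 10 :=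
  TC.relIndex_le (D := alt111) (gens := [1, 3, 5, 7, 9, 11, 13, 15]) hL (List.forall_mem_cons.2 ⟨hL.zero_mem K, hK⟩) hr alt111_head alt111_blocks (by decide) (by decide)
   (List.forall_mem_cons.2 ⟨⟨_, (of_allFrom_append of_lt_zero alt111_f1_0)⟩,
    List.forall_mem_cons.2 ⟨⟨_, (of_allFrom_append of_lt_zero alt111_f3_0)⟩,
    List.forall_mem_cons.2 ⟨⟨_, (of_allFrom_append of_lt_zero alt111_f5_0)⟩,
    List.forall_mem_cons.2 ⟨⟨_, (of_allFrom_append of_lt_zero alt111_f7_0)⟩,
    List.forall_mem_cons.2 ⟨⟨_, (of_allFrom_append of_lt_zero alt111_f9_0)⟩,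
    List.forall_mem_cons.2 ⟨⟨_, (of_allFrom_append of_lt_zero alt111_f11_0)⟩,
    List.forall_mem_cons.2 ⟨⟨_, (of_allFrom_append of_lt_zero alt111_f13_0)⟩,
    List.forall_mem_cons.2 ⟨⟨_, (of_allFrom_append of_lt_zero alt111_f15_0)⟩,
    fun _ h => absurd h List.not_mem_nil⟩⟩⟩⟩⟩⟩⟩⟩)

def alt112_rels : List W := [.pow (.l 1) 3, .pow (.l 3) 3, .pow (.l 5) 3, .pow (.l 7) 3, .pow (.l 9) 3, .pow (.l 11) 3, .pow (.l 13) 3, .pow (.mul (.l 1) (.l 3)) 2, .pow (.mul (.l 1) (.l 5)) 2, .pow (.mul (.l 1) (.l 7)) 2, .pow (.mul (.l 1) (.l 9)) 2, .pow (.mul (.l 1) (.l 11)) 2, .pow (.mul (.l 1) (.l 13)) 2, .pow (.mul (.l 3) (.l 5)) 2, .pow (.mul (.l 3) (.l 7)) 2, .pow (.mul (.l 3) (.l 9)) 2, .pow (.mul (.l 3) (.l 11)) 2, .pow (.mul (.l 3) (.l 13)) 2, .pow (.mul (.l 5) (.l 7)) 2, .pow (.mul (.l 5) (.l 9)) 2, .pow (.mul (.l 5) (.l 11)) 2, .pow (.mul (.l 5) (.l 13)) 2, .pow (.mul (.l 7) (.l 9)) 2, .pow (.mul (.l 7) (.l 11)) 2, .pow (.mul (.l 7) (.l 13)) 2, .pow (.mul (.l 9) (.l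 11)) 2, .pow (.mul (.l 9) (.l 13)) 2, .pow (.mul (.l 11) (.l 13)) 2]
def alt112_F : Tr := .leaf (nat_lit 0x743615098441e0d058240e05018642c9ced763add0e773395c8e371385d4e92733598cb653258cc56230d84c16431c9cad562ad54a95429d48a3512854ca527235188b4522510874321504814220c9c6d361acd4693419ccc653218cc4612612c54491411c4c451210c444117134580b05024100703014080301004170c14ba84ec812a984684109885a4e070b400000)
def alt112_T : Tr := .leaf (nat_lit 36344967696)
def alt112_P : Tr := .node (.leaf (nat_lit 0x56240d0001256220d0000e56200d00009260d00003481e0b00215482a0b0021448280b0021348260b0021248220b0000d48200b00008240b000023a1e09002113a2a09002103a28090020f3a26090020e3a24090020d3a2009000072209000012c1e070020c2c2a070020b2c28070020a2c2607002092c2407002082c220700207200700000021c050001b021a050001a0218050001802160500015021405000110212050000c020500006))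
  (.leaf (nat_lit 0x1ff001ff001ff001ff001ff001ff001ff001ff001ff001ff001ff001ff001ff001ff001ff721e110021b722811000197226110001772241100014722211000107220110000b2a1100005641e0f0021a642a0f0021964260f0001664240f0001364220f0000f64200f0000a280f00004561e0d00218562a0d0021756280d00216))
def alt112_N_0 : Tr := .node (.node (.node (.node (.leaf (nat_lit 1057))
  (.leaf (nat_lit 461)))
  (.leaf (nat_lit 34)))
  (.node (.node (.leaf (nat_lit 363875))
  (.leaf (nat_lit 562)))
  (.leaf (nat_lit 8199))))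
  (.node (.node (.node (.leaf (nat_lit 165025))
  (.leaf (nat_lit 16399)))
  (.leaf (nat_lit 197)))
  (.node (.leaf (nat_lit 433575))
  (.leaf (nat_lit 298))))
def alt112_N_1 : Tr := .node (.node (.node (.node (.leaf (nat_lit 9513))
  (.leaf (nat_lit 430)))
  (.leaf (nat_lit 4099)))
  (.node (.leaf (nat_lit 365925))
  (.leaf (nat_lit 329))))
  (.node (.node (.node (.leaf (nat_lit 427425))
  (.leaf (nat_lit 593)))
  (.leaf (nat_lit 166)))
  (.node (.leaf (nat_lit 65))
  (.leaf (nat_lit 12299))))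
def alt112_N_2 : Tr := .node (.node (.node (.node (.leaf (nat_lit 5285))
  (.leaf (nat_lit 14349)))
  (.leaf (nat_lit 131)))
  (.node (.node (.leaf (nat_lit 234725))
  (.leaf (nat_lit 0)))
  (.leaf (nat_lit 232))))
  (.node (.node (.node (.leaf (nat_lit 296225))
  (.leaf (nat_lit 496)))
  (.leaf (nat_lit 6149)))
  (.node (.leaf (nat_lit 435625))
  (.leaf (nat_lit 395))))
def alt112_N_3 : Tr := .node (.node (.node (.node (.leaf (nat_lit 13741))
  (.leaf (nat_lit 527)))
  (.leaf (nat_lit 100)))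
  (.node (.leaf (nat_lit 302375))
  (.leaf (nat_lit 10249))))
  (.node (.node (.node (.leaf (nat_lit 232675))
  (.leaf (nat_lit 18449)))
  (.leaf (nat_lit 263)))
  (.node (.leaf (nat_lit 2049))
  (.leaf (nat_lit 364))))
def alt112_N_4 : Tr := .node (.node (.node (.node (.leaf (nat_lit 3171))
  (.leaf (nat_lit 461)))
  (.leaf (nat_lit 1026)))
  (.node (.node (.leaf (nat_lit 429475))
  (.leaf (nat_lit 17426)))
  (.leaf (nat_lit 232))))
  (.node (.node (.node (.leaf (nat_lit 230625))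
  (.leaf (nat_lit 496)))
  (.leaf (nat_lit 197)))
  (.node (.leaf (nat_lit 370025))
  (.leaf (nat_lit 9226))))
def alt112_N_5 : Tr := .node (.node (.node (.node (.leaf (nat_lit 11627))
  (.leaf (nat_lit 13326)))
  (.leaf (nat_lit 100)))
  (.node (.leaf (nat_lit 431525))
  (.leaf (nat_lit 329))))
  (.node (.node (.node (.leaf (nat_lit 167075))
  (.leaf (nat_lit 593)))
  (.leaf (nat_lit 5126)))
  (.node (.leaf (nat_lit 65))
  (.leaf (nat_lit 364))))
def alt112_N_6 : Tr := .node (.node (.node (.node (.leaf (nat_lit 7399))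
  (.leaf (nat_lit 430)))
  (.leaf (nat_lit 131)))
  (.node (.node (.leaf (nat_lit 300325))
  (.leaf (nat_lit 0)))
  (.leaf (nat_lit 7176))))
  (.node (.node (.node (.leaf (nat_lit 361825))
  (.leaf (nat_lit 15376)))
  (.leaf (nat_lit 166)))
  (.node (.leaf (nat_lit 437675))
  (.leaf (nat_lit 395))))
def alt112_N_7 : Tr := .node (.node (.node (.node (.leaf (nat_lit 99425))
  (.leaf (nat_lit 527)))
  (.leaf (nat_lit 3076)))
  (.node (.leaf (nat_lit 367975))
  (.leaf (nat_lit 298))))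
  (.node (.node (.node (.leaf (nat_lit 298275))
  (.leaf (nat_lit 562)))
  (.leaf (nat_lit 263)))
  (.node (.leaf (nat_lit 34))
  (.leaf (nat_lit 11276))))
def alt112_N : Tr := .node (.node (.node alt112_N_0
  alt112_N_1)
  (.node alt112_N_2
  alt112_N_3))
  (.node (.node alt112_N_4
  alt112_N_5)
  (.node alt112_N_6
  alt112_N_7))
noncomputable def alt112 : TC :=
  ⟨[.l 0, .l 1, .l 2, .l 3, .l 4, .l 5, .l 6, .l 7, .l 8, .l 9, .l 10, .l 11, .l 12, .l 13, .l 14, .l 15, .l 16, .l 17, .l 18],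
    (nat_lit 4), (nat_lit 8), (nat_lit 0x464f835cb62547414c320440), (nat_lit 2731), (nat_lit 9), (nat_lit 6), (nat_lit 32), (nat_lit 2), (nat_lit 84),
    get (nat_lit 10) (nat_lit 0x1003010030080400c02010030080400c02010030080400c02010030080400c02010030080400c02010030080400c02010030080400c02010030080400c02010030080400c02010040100401004010040100401004010040100401004010040100300c0300c0300c03), Tr.get alt112_N, get (nat_lit 20) (nat_lit 0x3ff003ff003ff003ff003ff003ff003ff003ff003ff003ff003ff003ff003ff003ff003ff003ff003ff003ff003ff003ff003ff003ff003ff003ff003ff003ff003ff003ff003ff003ff003ff003ff003ff003ff003ff003ff003ff003ff003ff003ff003ff003ff003ff003ff003ff003ff003ff003ff003ff003ff003ff003ff003ff003ff003ff003ff0001b0001a000190001800017000160001500014000130001200011000100000f0000e0000d0000c0000b0000a00009000080000700006000050000400003000020000100000),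
    Tr.get3 alt112_F (nat_lit 18) (nat_lit 5), Tr.get3 alt112_T (nat_lit 4) (nat_lit 7), Tr.get alt112_P⟩

theorem alt112_head : alt112.headOK alt112_rels altI11 = true := by decide +kernel

theorem alt112_b0 : allFrom (nat_lit 0) (nat_lit 2) alt112.blockOK = true := by decide +kernel

def alt112_Q13 : Tr := .leaf (nat_lit 0x7ee18aa467014f02)
theorem alt112_f13_0 : allFrom (nat_lit 0) (nat_lit 9) (alt112.finOK (nat_lit 9) (Tr.get3 alt112_Q13 (nat_lit 7) (nat_lit 7)) (nat_lit 13)) = true := by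
  decide +kernel

def alt112_Q11 : Tr := .leaf (nat_lit 0x11dd829446dc951c)
theorem alt112_f11_0 : allFrom (nat_lit 0) (nat_lit 9) (alt112.finOK (nat_lit 9) (Tr.get3 alt112_Q11 (nat_lit 7) (nat_lit 7)) (nat_lit 11)) = true := by
  decide +kernel

def alt112_Q9 : Tr := .leaf (nat_lit 0x7c1f7a842699141a)
theorem alt112_f9_0 : allFrom (nat_lit 0) (nat_lit 9) (alt112.finOK (nat_lit 9) (Tr.get3 alt112_Q9 (nat_lit 7) (nat_lit 7)) (nat_lit 9)) = true := by
  decide +kernel

def alt112_Q7 : Tr := .leaf (nat_lit 0x7ad8367406559318)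
theorem alt112_f7_0 : allFrom (nat_lit 0) (nat_lit 9) (alt112.finOK (nat_lit 9) (Tr.get3 alt112_Q7 (nat_lit 7) (nat_lit 7)) (nat_lit 7)) = true := by
  decide +kernel

def alt112_Q5 : Tr := .leaf (nat_lit 0x78d5705be6121216)
theorem alt112_f5_0 : allFrom (nat_lit 0) (nat_lit 9) (alt112.finOK (nat_lit 9) (Tr.get3 alt112_Q5 (nat_lit 7) (nat_lit 7)) (nat_lit 5)) = true := by
  decide +kernel

def alt112_Q3 : Tr := .leaf (nat_lit 0x76d16a6095ce9114)
theorem alt112_f3_0 : allFrom (nat_lit 0) (nat_lit 9) (alt112.finOK (nat_lit 9) (Tr.get3 alt112_Q3 (nat_lit 7) (nat_lit 7)) (nat_lit 3)) = true := by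
  decide +kernel

def alt112_Q1 : Tr := .leaf (nat_lit 0x74cd6253c0eb1012)
theorem alt112_f1_0 : allFrom (nat_lit 0) (nat_lit 9) (alt112.finOK (nat_lit 9) (Tr.get3 alt112_Q1 (nat_lit 7) (nat_lit 7)) (nat_lit 1)) = true := by
  decide +kernel

theorem alt112_blocks : ∀ t < alt112.k, alt112.blockOK t = true :=
  (of_allFrom_append of_lt_zero alt112_b0)

/-- index 9 max 9 total 9 facts 64 | needed cosets 9 facts 64 steps 140 trivial 0 -/
theorem alt112_index {G : Type*} [Group G] {γ : ℕ → G} (hL : Lab γ altI11) (hr : ∀ t ∈ alt112_rels, t.ev γ = 1) {K : Subgroup G}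
    (hK : ∀ t ∈ ([.l 1, .l 3, .l 5, .l 7, .l 9, .l 11] : List W), t.ev γ ∈ K) :
    K.relIndex (genW γ [.l 1, .l 3, .l 5, .l 7, .l 9, .l 11, .l 13]) ≠ 0 ∧ K.relIndex (genW γ [.l 1, .l 3, .l 5, .l 7, .l 9, .l 11, .l 13]) ≤ 9 :=
  TC.relIndex_le (D := alt112) (gens := [1, 3, 5, 7, 9, 11, 13]) hL (List.forall_mem_cons.2 ⟨hL.zero_mem K, hK⟩) hr alt112_head alt112_blocks (by decide) (by decide)
   (List.forall_mem_cons.2 ⟨⟨_, (of_allFrom_append of_lt_zero alt112_f1_0)⟩,
    List.forall_mem_cons.2 ⟨⟨_, (of_allFrom_append of_lt_zero alt112_f3_0)⟩,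
    List.forall_mem_cons.2 ⟨⟨_, (of_allFrom_append of_lt_zero alt112_f5_0)⟩,
    List.forall_mem_cons.2 ⟨⟨_, (of_allFrom_append of_lt_zero alt112_f7_0)⟩,
    List.forall_mem_cons.2 ⟨⟨_, (of_allFrom_append of_lt_zero alt112_f9_0)⟩,
    List.forall_mem_cons.2 ⟨⟨_, (of_allFrom_append of_lt_zero alt112_f11_0)⟩,
    List.forall_mem_cons.2 ⟨⟨_, (of_allFrom_append of_lt_zero alt112_f13_0)⟩,
    fun _ h => absurd h List.not_mem_nil⟩⟩⟩⟩⟩⟩⟩)

def alt113_rels : List W := [.pow (.l 1) 3, .pow (.l 3) 3, .pow (.l 5) 3, .pow (.l 7) 3, .pow (.l 9) 3, .pow (.l 11) 3, .pow (.mul (.l 1) (.l 3)) 2, .pow (.mul (.l 1) (.l 5)) 2, .pow (.mul (.l 1) (.l 7)) 2, .pow (.mul (.l 1) (.l 9)) 2, .pow (.mul (.l 1) (.l 11)) 2, .pow (.mul (.l 3) (.l 5)) 2, .pow (.mul (.l 3) (.l 7)) 2, .pow (.mul (.l 3) (.l 9)) 2, .pow (.mul (.l 3) (.l 11)) 2, .pow (.mul (.l 5) (.l 7)) 2, .pow (.mul (.l 5) (.l 9)) 2, .pow (.mul (.l 5) (.l 11)) 2, .pow (.mul (.l 7) (.l 9)) 2, .pow (.mul (.l 7) (.l 11)) 2, .pow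 (.mul (.l 9) (.l 11)) 2]
def alt113_F : Tr := .leaf (nat_lit 0x675f473f372f271f170f574a665e564e362e261e160e463a655d554d453d251d150d352a645c544c443c342c140c241a635b534b433b332b231b130a524942393229221912096259504840383028201810084f513e412d311c210b115a6061580000)
def alt113_T : Tr := .leaf (nat_lit 16434824)
def alt113_P : Tr := .node (.leaf (nat_lit 0x561c0f00009240f000044a1a0d002134a240d002124a200d0000f4a1e0d0000c4a1c0d00008220d000033e1a0b002113e240b002103e220b0020f3e1e0b0000b3e1c0b00007200b00002321a090020e3224090020d3222090020c3220090020b321c09000061e0900001261a070020a262407002092622070020826200700207261e07002061c07000000218050001402160500013021405000110212050000e0210050000a020500005))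
  (.leaf (nat_lit 0x1ff001ff001ff001ff001ff001ff001ff001ff001ff001ff001ff001ff001ff001ff001ff001ff001ff001ff001ff001ff001ff001ff001ff001ff001ff001ff001ff001ff561a0f0021456220f0001256200f00010561e0f0000d))
def alt113_N_0 : Tr := .node (.node (.node (.node (.leaf (nat_lit 1057))
  (.leaf (nat_lit 527)))
  (.leaf (nat_lit 3076)))
  (.node (.leaf (nat_lit 300325))
  (.leaf (nat_lit 298))))
  (.node (.node (.node (.leaf (nat_lit 230625))
  (.leaf (nat_lit 562)))
  (.leaf (nat_lit 263)))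
  (.node (.leaf (nat_lit 34))
  (.leaf (nat_lit 11276))))
def alt113_N_1 : Tr := .node (.node (.node (.node (.leaf (nat_lit 9513))
  (.leaf (nat_lit 15376)))
  (.leaf (nat_lit 166)))
  (.node (.leaf (nat_lit 370025))
  (.leaf (nat_lit 395))))
  (.node (.node (.node (.leaf (nat_lit 232675))
  (.leaf (nat_lit 0)))
  (.leaf (nat_lit 7176)))
  (.node (.leaf (nat_lit 131))
  (.leaf (nat_lit 430))))
def alt113_N_2 : Tr := .node (.node (.node (.node (.leaf (nat_lit 5285))
  (.leaf (nat_lit 496)))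
  (.leaf (nat_lit 197)))
  (.node (.leaf (nat_lit 302375))
  (.leaf (nat_lit 9226))))
  (.node (.node (.node (.leaf (nat_lit 361825))
  (.leaf (nat_lit 17426)))
  (.leaf (nat_lit 232)))
  (.node (.leaf (nat_lit 1026))
  (.leaf (nat_lit 461))))
def alt113_N_3 : Tr := .node (.node (.node (.node (.leaf (nat_lit 99425))
  (.leaf (nat_lit 593)))
  (.leaf (nat_lit 5126)))
  (.node (.leaf (nat_lit 65))
  (.leaf (nat_lit 364))))
  (.node (.node (.leaf (nat_lit 363875))
  (.leaf (nat_lit 329)))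
  (.node (.leaf (nat_lit 100))
  (.leaf (nat_lit 13326))))
def alt113_N_4 : Tr := .node (.node (.node (.node (.leaf (nat_lit 3171))
  (.leaf (nat_lit 16399)))
  (.leaf (nat_lit 197)))
  (.node (.leaf (nat_lit 365925))
  (.leaf (nat_lit 298))))
  (.node (.node (.node (.leaf (nat_lit 296225))
  (.leaf (nat_lit 562)))
  (.leaf (nat_lit 8199)))
  (.node (.leaf (nat_lit 34))
  (.leaf (nat_lit 461))))
def alt113_N_5 : Tr := .node (.node (.node (.node (.leaf (nat_lit 11627))
  (.leaf (nat_lit 593)))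
  (.leaf (nat_lit 166)))
  (.node (.leaf (nat_lit 65))
  (.leaf (nat_lit 12299))))
  (.node (.node (.leaf (nat_lit 298275))
  (.leaf (nat_lit 329)))
  (.node (.leaf (nat_lit 4099))
  (.leaf (nat_lit 430))))
def alt113_N_6 : Tr := .node (.node (.node (.node (.leaf (nat_lit 7399))
  (.leaf (nat_lit 496)))
  (.leaf (nat_lit 6149)))
  (.node (.leaf (nat_lit 367975))
  (.leaf (nat_lit 395))))
  (.node (.node (.node (.leaf (nat_lit 167075))
  (.leaf (nat_lit 0)))
  (.leaf (nat_lit 232)))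
  (.node (.leaf (nat_lit 131))
  (.leaf (nat_lit 14349))))
def alt113_N_7 : Tr := .node (.node (.node (.node (.leaf (nat_lit 165025))
  (.leaf (nat_lit 18449)))
  (.leaf (nat_lit 263)))
  (.node (.leaf (nat_lit 2049))
  (.leaf (nat_lit 364))))
  (.node (.node (.leaf (nat_lit 234725))
  (.leaf (nat_lit 10249)))
  (.node (.leaf (nat_lit 100))
  (.leaf (nat_lit 527))))
def alt113_N : Tr := .node (.node (.node alt113_N_0
  alt113_N_1)
  (.node alt113_N_2
  alt113_N_3))
  (.node (.node alt113_N_4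
  alt113_N_5)
  (.node alt113_N_6
  alt113_N_7))
noncomputable def alt113 : TC :=
  ⟨[.l 0, .l 1, .l 2, .l 3, .l 4, .l 5, .l 6, .l 7, .l 8, .l 9, .l 10, .l 11, .l 12, .l 13, .l 14, .l 15, .l 16, .l 17, .l 18],
    (nat_lit 3), (nat_lit 8), (nat_lit 0x464f835cb62547414c320440), (nat_lit 683), (nat_lit 8), (nat_lit 5), (nat_lit 32), (nat_lit 2), (nat_lit 77),
    get (nat_lit 10) (nat_lit 0x400c0400c02010030080400c02010030080400c02010030080400c02010030080400c02010030080400c02010030080400c02010030080400c02010030080400c0201003008040100401004010040100401004010040100400c0300c0300c03), Tr.get alt113_N, get (nat_lit 20) (nat_lit 0x3ff003ff003ff003ff003ff003ff003ff003ff003ff003ff003ff003ff003ff003ff003ff003ff003ff003ff003ff003ff003ff003ff003ff003ff003ff003ff003ff003ff003ff003ff003ff003ff003ff003ff003ff003ff003ff003ff003ff003ff003ff003ff003ff003ff003ff003ff003ff003ff003ff003ff003ff003ff003ff003ff003ff003ff00014000130001200011000100000f0000e0000d0000c0000b0000a00009000080000700006000050000400003000020000100000),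
    Tr.get3 alt113_F (nat_lit 16) (nat_lit 5), Tr.get3 alt113_T (nat_lit 3) (nat_lit 8), Tr.get alt113_P⟩

theorem alt113_head : alt113.headOK alt113_rels altI11 = true := by decide +kernel

theorem alt113_b0 : allFrom (nat_lit 0) (nat_lit 2) alt113.blockOK = true := by decide +kernel

def alt113_Q11 : Tr := .leaf (nat_lit 0xc15243c6014d02)
theorem alt113_f11_0 : allFrom (nat_lit 0) (nat_lit 8) (alt113.finOK (nat_lit 8) (Tr.get3 alt113_Q11 (nat_lit 7) (nat_lit 7)) (nat_lit 11)) = true := by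
  decide +kernel

def alt113_Q9 : Tr := .leaf (nat_lit 0x1f4a33a5d59218)
theorem alt113_f9_0 : allFrom (nat_lit 0) (nat_lit 8) (alt113.finOK (nat_lit 8) (Tr.get3 alt113_Q9 (nat_lit 7) (nat_lit 7)) (nat_lit 9)) = true := by
  decide +kernel

def alt113_Q7 : Tr := .leaf (nat_lit 0xbc362385929116)
theorem alt113_f7_0 : allFrom (nat_lit 0) (nat_lit 8) (alt113.finOK (nat_lit 8) (Tr.get3 alt113_Q7 (nat_lit 7) (nat_lit 7)) (nat_lit 7)) = true := by
  decide +kernel

def alt113_Q5 : Tr := .leaf (nat_lit 0xb9405b654f9014)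
theorem alt113_f5_0 : allFrom (nat_lit 0) (nat_lit 8) (alt113.finOK (nat_lit 8) (Tr.get3 alt113_Q5 (nat_lit 7) (nat_lit 7)) (nat_lit 5)) = true := by
  decide +kernel

def alt113_Q3 : Tr := .leaf (nat_lit 0xb53a10950c8f12)
theorem alt113_f3_0 : allFrom (nat_lit 0) (nat_lit 8) (alt113.finOK (nat_lit 8) (Tr.get3 alt113_Q3 (nat_lit 7) (nat_lit 7)) (nat_lit 3)) = true := by
  decide +kernel

def alt113_Q1 : Tr := .leaf (nat_lit 0xb1320340e98e10)
theorem alt113_f1_0 : allFrom (nat_lit 0) (nat_lit 8) (alt113.finOK (nat_lit 8) (Tr.get3 alt113_Q1 (nat_lit 7) (nat_lit 7)) (nat_lit 1)) = true := by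
  decide +kernel

theorem alt113_blocks : ∀ t < alt113.k, alt113.blockOK t = true :=
  (of_allFrom_append of_lt_zero alt113_b0)

/-- index 8 max 8 total 8 facts 49 | needed cosets 8 facts 49 steps 102 trivial 0 -/
theorem alt113_index {G : Type*} [Group G] {γ : ℕ → G} (hL : Lab γ altI11) (hr : ∀ t ∈ alt113_rels, t.ev γ = 1) {K : Subgroup G}
    (hK : ∀ t ∈ ([.l 1, .l 3, .l 5, .l 7, .l 9] : List W), t.ev γ ∈ K) :
    K.relIndex (genW γ [.l 1, .l 3, .l 5, .l 7, .l 9, .l 11]) ≠ 0 ∧ K.relIndex (genW γ [.l 1, .l 3, .l 5, .l 7, .l 9, .l 11]) ≤ 8 :=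
  TC.relIndex_le (D := alt113) (gens := [1, 3, 5, 7, 9, 11]) hL (List.forall_mem_cons.2 ⟨hL.zero_mem K, hK⟩) hr alt113_head alt113_blocks (by decide) (by decide)
   (List.forall_mem_cons.2 ⟨⟨_, (of_allFrom_append of_lt_zero alt113_f1_0)⟩,
    List.forall_mem_cons.2 ⟨⟨_, (of_allFrom_append of_lt_zero alt113_f3_0)⟩,
    List.forall_mem_cons.2 ⟨⟨_, (of_allFrom_append of_lt_zero alt113_f5_0)⟩,
    List.forall_mem_cons.2 ⟨⟨_, (of_allFrom_append of_lt_zero alt113_f7_0)⟩,
    List.forall_mem_cons.2 ⟨⟨_, (of_allFrom_append of_lt_zero alt113_f9_0)⟩,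
    List.forall_mem_cons.2 ⟨⟨_, (of_allFrom_append of_lt_zero alt113_f11_0)⟩,
    fun _ h => absurd h List.not_mem_nil⟩⟩⟩⟩⟩⟩)

def alt114_rels : List W := [.pow (.l 1) 3, .pow (.l 3) 3, .pow (.l 5) 3, .pow (.l 7) 3, .pow (.l 9) 3, .pow (.mul (.l 1) (.l 3)) 2, .pow (.mul (.l 1) (.l 5)) 2, .pow (.mul (.l 1) (.l 7)) 2, .pow (.mul (.l 1) (.l 9)) 2, .pow (.mul (.l 3) (.l 5)) 2, .pow (.mul (.l 3) (.l 7)) 2, .pow (.mul (.l 3) (.l 9)) 2, .pow (.mul (.l 5) (.l 7)) 2, .pow (.mul (.l 5) (.l 9)) 2, .pow (.mul (.l 7) (.l 9)) 2]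
def alt114_F : Tr := .leaf (nat_lit 0x564e362e261e160e463a554d453d251d150d352a544c443c342c140c241a534b433b332b231b130a4239322922191209524940383028201810083e412d311c210b114a5051480000)
def alt114_T : Tr := .leaf (nat_lit 1754760)
def alt114_P : Tr := .leaf (nat_lit 0x7fc007fc007fc007fc007fc007fc007fdf161a0041cf8e0d0000c7c686800053e30340001cf0d000036858580106b43c2c00831a1a1600012d0c0b00006382c000095161200416a8f090020a5470480104aa302400014d09000014058380104203c1c0081d01c0e0040c80d0700205301c000001140a0001c089050000d0440280005821c140002010500004)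
def alt114_N_0 : Tr := .node (.node (.node (.node (.leaf (nat_lit 1057))
  (.leaf (nat_lit 593)))
  (.leaf (nat_lit 5126)))
  (.node (.leaf (nat_lit 65))
  (.leaf (nat_lit 364))))
  (.node (.node (.leaf (nat_lit 296225))
  (.leaf (nat_lit 329)))
  (.node (.leaf (nat_lit 100))
  (.leaf (nat_lit 13326))))
def alt114_N_1 : Tr := .node (.node (.node (.node (.leaf (nat_lit 9513))
  (.leaf (nat_lit 17426)))
  (.leaf (nat_lit 232)))
  (.node (.leaf (nat_lit 1026))
  (.leaf (nat_lit 461))))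
  (.node (.node (.leaf (nat_lit 234725))
  (.leaf (nat_lit 9226)))
  (.node (.leaf (nat_lit 197))
  (.leaf (nat_lit 496))))
def alt114_N_2 : Tr := .node (.node (.node (.node (.leaf (nat_lit 5285))
  (.leaf (nat_lit 562)))
  (.leaf (nat_lit 263)))
  (.node (.leaf (nat_lit 34))
  (.leaf (nat_lit 11276))))
  (.node (.node (.leaf (nat_lit 232675))
  (.leaf (nat_lit 298)))
  (.node (.leaf (nat_lit 3076))
  (.leaf (nat_lit 527))))
def alt114_N_3 : Tr := .node (.node (.node (.node (.leaf (nat_lit 165025))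
  (.leaf (nat_lit 0)))
  (.leaf (nat_lit 7176)))
  (.node (.leaf (nat_lit 131))
  (.leaf (nat_lit 430))))
  (.node (.node (.leaf (nat_lit 302375))
  (.leaf (nat_lit 395)))
  (.node (.leaf (nat_lit 166))
  (.leaf (nat_lit 15376))))
def alt114_N_4 : Tr := .node (.node (.node (.node (.leaf (nat_lit 3171))
  (.leaf (nat_lit 18449)))
  (.leaf (nat_lit 263)))
  (.node (.leaf (nat_lit 2049))
  (.leaf (nat_lit 364))))
  (.node (.node (.leaf (nat_lit 167075))
  (.leaf (nat_lit 10249)))
  (.node (.leaf (nat_lit 100))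
  (.leaf (nat_lit 527))))
def alt114_N_5 : Tr := .node (.node (.node (.node (.leaf (nat_lit 99425))
  (.leaf (nat_lit 0)))
  (.leaf (nat_lit 232)))
  (.node (.leaf (nat_lit 131))
  (.leaf (nat_lit 14349))))
  (.node (.node (.leaf (nat_lit 300325))
  (.leaf (nat_lit 395)))
  (.node (.leaf (nat_lit 6149))
  (.leaf (nat_lit 496))))
def alt114_N_6 : Tr := .node (.node (.node (.node (.leaf (nat_lit 7399))
  (.leaf (nat_lit 562)))
  (.leaf (nat_lit 8199)))
  (.node (.leaf (nat_lit 34))
  (.leaf (nat_lit 461))))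
  (.node (.node (.leaf (nat_lit 298275))
  (.leaf (nat_lit 298)))
  (.node (.leaf (nat_lit 197))
  (.leaf (nat_lit 16399))))
def alt114_N : Tr := .node (.node (.node alt114_N_0
  alt114_N_1)
  (.node alt114_N_2
  alt114_N_3))
  (.node (.node alt114_N_4
  alt114_N_5)
  (.node alt114_N_6
  (.node (.node (.node (.leaf (nat_lit 230625))
  (.leaf (nat_lit 329)))
  (.node (.leaf (nat_lit 4099))
  (.leaf (nat_lit 430))))
  (.node (.node (.leaf (nat_lit 65))
  (.leaf (nat_lit 12299)))
  (.node (.leaf (nat_lit 166))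
  (.leaf (nat_lit 593)))))))
noncomputable def alt114 : TC :=
  ⟨[.l 0, .l 1, .l 2, .l 3, .l 4, .l 5, .l 6, .l 7, .l 8, .l 9, .l 10, .l 11, .l 12, .l 13, .l 14, .l 15, .l 16, .l 17, .l 18],
    (nat_lit 3), (nat_lit 7), (nat_lit 0x464f835cb62547414c320440), (nat_lit 171), (nat_lit 7), (nat_lit 4), (nat_lit 32), (nat_lit 1), (nat_lit 71),
    get (nat_lit 10) (nat_lit 0x400c0400c02010030080400c02010030080400c02010030080400c02010030080400c02010030080400c02010030080400c02010030080400c02010030080400c020100300804010040100401004010040100300c0300c03), Tr.get alt114_N, get (nat_lit 20) (nat_lit 0x3ff003ff003ff003ff003ff003ff003ff003ff003ff003ff003ff003ff003ff003ff003ff003ff003ff003ff003ff003ff003ff003ff003ff003ff003ff003ff003ff003ff003ff003ff003ff003ff003ff003ff003ff003ff003ff003ff003ff003ff003ff003ff003ff003ff003ff003ff003ff003ff003ff003ff003ff003ff003ff003ff003ff003ff0000e0000d0000c0000b0000a00009000080000700006000050000400003000020000100000),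
    Tr.get3 alt114_F (nat_lit 16) (nat_lit 5), Tr.get3 alt114_T (nat_lit 3) (nat_lit 8), Tr.get alt114_P⟩

theorem alt114_head : alt114.headOK alt114_rels altI11 = true := by decide +kernel

theorem alt114_b0 : allFrom (nat_lit 0) (nat_lit 1) alt114.blockOK = true := by decide +kernel

def alt114_Q9 : Tr := .leaf (nat_lit 309938345822978)
theorem alt114_f9_0 : allFrom (nat_lit 0) (nat_lit 7) (alt114.finOK (nat_lit 7) (Tr.get3 alt114_Q9 (nat_lit 7) (nat_lit 7)) (nat_lit 9)) = true := by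
  decide +kernel

def alt114_Q7 : Tr := .leaf (nat_lit 956445747092)
theorem alt114_f7_0 : allFrom (nat_lit 0) (nat_lit 7) (alt114.finOK (nat_lit 7) (Tr.get3 alt114_Q7 (nat_lit 6) (nat_lit 7)) (nat_lit 7)) = true := by
  decide +kernel

def alt114_Q5 : Tr := .leaf (nat_lit 299457544261138)
theorem alt114_f5_0 : allFrom (nat_lit 0) (nat_lit 7) (alt114.finOK (nat_lit 7) (Tr.get3 alt114_Q5 (nat_lit 7) (nat_lit 7)) (nat_lit 5)) = true := by
  decide +kernel

def alt114_Q3 : Tr := .leaf (nat_lit 292197702995216)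
theorem alt114_f3_0 : allFrom (nat_lit 0) (nat_lit 7) (alt114.finOK (nat_lit 7) (Tr.get3 alt114_Q3 (nat_lit 7) (nat_lit 7)) (nat_lit 3)) = true := by
  decide +kernel

def alt114_Q1 : Tr := .leaf (nat_lit 283342228950030)
theorem alt114_f1_0 : allFrom (nat_lit 0) (nat_lit 7) (alt114.finOK (nat_lit 7) (Tr.get3 alt114_Q1 (nat_lit 7) (nat_lit 7)) (nat_lit 1)) = true := by
  decide +kernel

theorem alt114_blocks : ∀ t < alt114.k, alt114.blockOK t = true :=
  (of_allFrom_append of_lt_zero alt114_b0)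

/-- index 7 max 7 total 7 facts 36 | needed cosets 7 facts 36 steps 70 trivial 0 -/
theorem alt114_index {G : Type*} [Group G] {γ : ℕ → G} (hL : Lab γ altI11) (hr : ∀ t ∈ alt114_rels, t.ev γ = 1) {K : Subgroup G}
    (hK : ∀ t ∈ ([.l 1, .l 3, .l 5, .l 7] : List W), t.ev γ ∈ K) :
    K.relIndex (genW γ [.l 1, .l 3, .l 5, .l 7, .l 9]) ≠ 0 ∧ K.relIndex (genW γ [.l 1, .l 3, .l 5, .l 7, .l 9]) ≤ 7 :=
  TC.relIndex_le (D := alt114) (gens := [1, 3, 5, 7, 9]) hL (List.forall_mem_cons.2 ⟨hL.zero_mem K, hK⟩) hr alt114_head alt114_blocks (by decide) (by decide)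
   (List.forall_mem_cons.2 ⟨⟨_, (of_allFrom_append of_lt_zero alt114_f1_0)⟩,
    List.forall_mem_cons.2 ⟨⟨_, (of_allFrom_append of_lt_zero alt114_f3_0)⟩,
    List.forall_mem_cons.2 ⟨⟨_, (of_allFrom_append of_lt_zero alt114_f5_0)⟩,
    List.forall_mem_cons.2 ⟨⟨_, (of_allFrom_append of_lt_zero alt114_f7_0)⟩,
    List.forall_mem_cons.2 ⟨⟨_, (of_allFrom_append of_lt_zero alt114_f9_0)⟩,
    fun _ h => absurd h List.not_mem_nil⟩⟩⟩⟩⟩)

def alt115_rels : List W := [.pow (.l 1) 3, .pow (.l 3) 3, .pow (.l 5) 3, .pow (.l 7) 3, .pow (.mul (.l 1) (.l 3)) 2, .pow (.mul (.l 1) (.l 5)) 2, .pow (.mul (.l 1) (.l 7)) 2, .pow (.mul (.l 3) (.l 5)) 2, .pow (.mul (.l 3) (.l 7)) 2, .pow (.mul (.l 5) (.l 7)) 2]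
def alt115_F : Tr := .leaf (nat_lit 0x453d251d150d352a443c342c140c241a433b332b231b130a32292219120942393028201810082d311c210b113a4041380000)
def alt115_T : Tr := .leaf (nat_lit 181896)
def alt115_P : Tr := .leaf (nat_lit 0x1ff001ff001ff001ff001ff001ff001ff001ff001ff001ff001ff001ff001ff001ff001ff001ff5448580104aa2c2c0001d514160000a6058000122242400821118120040e88a09000042c2400004d120e0040c68c07002053458380102140e00000088050000904382800040218140001810500003)
def alt115_N_0 : Tr := .node (.node (.node (.node (.leaf (nat_lit 1057))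
  (.leaf (nat_lit 0)))
  (.leaf (nat_lit 232)))
  (.node (.leaf (nat_lit 131))
  (.leaf (nat_lit 14349))))
  (.node (.node (.leaf (nat_lit 232675))
  (.leaf (nat_lit 395)))
  (.node (.leaf (nat_lit 6149))
  (.leaf (nat_lit 496))))
def alt115_N_1 : Tr := .node (.node (.node (.node (.leaf (nat_lit 5285))
  (.leaf (nat_lit 329)))
  (.node (.leaf (nat_lit 4099))
  (.leaf (nat_lit 430))))
  (.node (.node (.leaf (nat_lit 65))
  (.leaf (nat_lit 12299)))
  (.node (.leaf (nat_lit 166))
  (.leaf (nat_lit 593)))))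
  (.node (.node (.node (.leaf (nat_lit 230625))
  (.leaf (nat_lit 298)))
  (.node (.leaf (nat_lit 197))
  (.leaf (nat_lit 16399))))
  (.node (.node (.leaf (nat_lit 34))
  (.leaf (nat_lit 461)))
  (.node (.leaf (nat_lit 8199))
  (.leaf (nat_lit 562)))))
def alt115_N_2 : Tr := .node (.node (.node (.node (.leaf (nat_lit 3171))
  (.leaf (nat_lit 0)))
  (.leaf (nat_lit 7176)))
  (.node (.leaf (nat_lit 131))
  (.leaf (nat_lit 430))))
  (.node (.node (.leaf (nat_lit 234725))
  (.leaf (nat_lit 395)))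
  (.node (.leaf (nat_lit 166))
  (.leaf (nat_lit 15376))))
def alt115_N_3 : Tr := .node (.node (.node (.node (.leaf (nat_lit 7399))
  (.leaf (nat_lit 329)))
  (.node (.leaf (nat_lit 100))
  (.leaf (nat_lit 13326))))
  (.node (.node (.leaf (nat_lit 65))
  (.leaf (nat_lit 364)))
  (.node (.leaf (nat_lit 5126))
  (.leaf (nat_lit 593)))))
  (.node (.node (.node (.leaf (nat_lit 167075))
  (.leaf (nat_lit 9226)))
  (.node (.leaf (nat_lit 197))
  (.leaf (nat_lit 496))))
  (.node (.node (.leaf (nat_lit 1026))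
  (.leaf (nat_lit 461)))
  (.node (.leaf (nat_lit 232))
  (.leaf (nat_lit 17426)))))
def alt115_N : Tr := .node (.node (.node alt115_N_0
  (.node (.node (.node (.leaf (nat_lit 99425))
  (.leaf (nat_lit 10249)))
  (.node (.leaf (nat_lit 100))
  (.leaf (nat_lit 527))))
  (.node (.node (.leaf (nat_lit 2049))
  (.leaf (nat_lit 364)))
  (.node (.leaf (nat_lit 263))
  (.leaf (nat_lit 18449))))))
  alt115_N_1)
  (.node (.node alt115_N_2
  (.node (.node (.node (.leaf (nat_lit 165025))
  (.leaf (nat_lit 298)))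
  (.node (.leaf (nat_lit 3076))
  (.leaf (nat_lit 527))))
  (.node (.node (.leaf (nat_lit 34))
  (.leaf (nat_lit 11276)))
  (.node (.leaf (nat_lit 263))
  (.leaf (nat_lit 562))))))
  alt115_N_3)
noncomputable def alt115 : TC :=
  ⟨[.l 0, .l 1, .l 2, .l 3, .l 4, .l 5, .l 6, .l 7, .l 8, .l 9, .l 10, .l 11, .l 12, .l 13, .l 14, .l 15, .l 16, .l 17, .l 18],
    (nat_lit 3), (nat_lit 7), (nat_lit 0x464f835cb62547414c320440), (nat_lit 43), (nat_lit 6), (nat_lit 3), (nat_lit 32), (nat_lit 1), (nat_lit 66),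
    get (nat_lit 10) (nat_lit 0x1003010030080400c02010030080400c02010030080400c02010030080400c02010030080400c02010030080400c02010030080400c02010030080400c02010030080400c0201004010040100400c0300c03), Tr.get alt115_N, get (nat_lit 20) (nat_lit 0x3ff003ff003ff003ff003ff003ff003ff003ff003ff003ff003ff003ff003ff003ff003ff003ff003ff003ff003ff003ff003ff003ff003ff003ff003ff003ff003ff003ff003ff003ff003ff003ff003ff003ff003ff003ff003ff003ff003ff003ff003ff003ff003ff003ff003ff003ff003ff003ff003ff003ff003ff003ff003ff003ff003ff003ff00009000080000700006000050000400003000020000100000),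
    Tr.get3 alt115_F (nat_lit 16) (nat_lit 5), Tr.get3 alt115_T (nat_lit 3) (nat_lit 8), Tr.get alt115_P⟩

theorem alt115_head : alt115.headOK alt115_rels altI11 = true := by decide +kernel

theorem alt115_b0 : allFrom (nat_lit 0) (nat_lit 1) alt115.blockOK = true := by decide +kernel

def alt115_Q7 : Tr := .leaf (nat_lit 52219106434)
theorem alt115_f7_0 : allFrom (nat_lit 0) (nat_lit 6) (alt115.finOK (nat_lit 6) (Tr.get3 alt115_Q7 (nat_lit 6) (nat_lit 7)) (nat_lit 7)) = true := by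
  decide +kernel

def alt115_Q5 : Tr := .leaf (nat_lit 12456732176)
theorem alt115_f5_0 : allFrom (nat_lit 0) (nat_lit 6) (alt115.finOK (nat_lit 6) (Tr.get3 alt115_Q5 (nat_lit 6) (nat_lit 7)) (nat_lit 5)) = true := by
  decide +kernel

def alt115_Q3 : Tr := .leaf (nat_lit 49550599566)
theorem alt115_f3_0 : allFrom (nat_lit 0) (nat_lit 6) (alt115.finOK (nat_lit 6) (Tr.get3 alt115_Q3 (nat_lit 6) (nat_lit 7)) (nat_lit 3)) = true := by
  decide +kernel

def alt115_Q1 : Tr := .leaf (nat_lit 47850562828)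
theorem alt115_f1_0 : allFrom (nat_lit 0) (nat_lit 6) (alt115.finOK (nat_lit 6) (Tr.get3 alt115_Q1 (nat_lit 6) (nat_lit 7)) (nat_lit 1)) = true := by
  decide +kernel

theorem alt115_blocks : ∀ t < alt115.k, alt115.blockOK t = true :=
  (of_allFrom_append of_lt_zero alt115_b0)

/-- index 6 max 6 total 6 facts 25 | needed cosets 6 facts 25 steps 44 trivial 0 -/
theorem alt115_index {G : Type*} [Group G] {γ : ℕ → G} (hL : Lab γ altI11) (hr : ∀ t ∈ alt115_rels, t.ev γ = 1) {K : Subgroup G}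
    (hK : ∀ t ∈ ([.l 1, .l 3, .l 5] : List W), t.ev γ ∈ K) :
    K.relIndex (genW γ [.l 1, .l 3, .l 5, .l 7]) ≠ 0 ∧ K.relIndex (genW γ [.l 1, .l 3, .l 5, .l 7]) ≤ 6 :=
  TC.relIndex_le (D := alt115) (gens := [1, 3, 5, 7]) hL (List.forall_mem_cons.2 ⟨hL.zero_mem K, hK⟩) hr alt115_head alt115_blocks (by decide) (by decide)
   (List.forall_mem_cons.2 ⟨⟨_, (of_allFrom_append of_lt_zero alt115_f1_0)⟩,
    List.forall_mem_cons.2 ⟨⟨_, (of_allFrom_append of_lt_zero alt115_f3_0)⟩,
    List.forall_mem_cons.2 ⟨⟨_, (of_allFrom_append of_lt_zero alt115_f5_0)⟩,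
    List.forall_mem_cons.2 ⟨⟨_, (of_allFrom_append of_lt_zero alt115_f7_0)⟩,
    fun _ h => absurd h List.not_mem_nil⟩⟩⟩⟩)

def alt116_rels : List W := [.pow (.l 1) 3, .pow (.l 3) 3, .pow (.l 5) 3, .pow (.mul (.l 1) (.l 3)) 2, .pow (.mul (.l 1) (.l 5)) 2, .pow (.mul (.l 3) (.l 5)) 2]
def alt116_F : Tr := .leaf (nat_lit 0x342c140c241a332b231b130a221912093229201810081c210b112a3031280000)
def alt116_T : Tr := .leaf (nat_lit 18056)
def alt116_P : Tr := .leaf (nat_lit 0x1ff001ff001ff001ff001ff001ff001ff001ff001ff001ff001ff001ff001ff001ff001ff001ff001ff001ff001ff001ff001ff001ff001ff34384801029a20240000c90900001283838010214241c0080c8070000004302800028214140001010500002)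
def alt116_N_0 : Tr := .node (.node (.node (.node (.leaf (nat_lit 1057))
  (.leaf (nat_lit 10249)))
  (.node (.leaf (nat_lit 100))
  (.leaf (nat_lit 527))))
  (.node (.node (.leaf (nat_lit 2049))
  (.leaf (nat_lit 364)))
  (.node (.leaf (nat_lit 263))
  (.leaf (nat_lit 18449)))))
  (.node (.node (.node (.leaf (nat_lit 165025))
  (.leaf (nat_lit 395)))
  (.node (.leaf (nat_lit 6149))
  (.leaf (nat_lit 496))))
  (.node (.node (.leaf (nat_lit 131))
  (.leaf (nat_lit 14349)))
  (.node (.leaf (nat_lit 232))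
  (.leaf (nat_lit 0)))))
def alt116_N_1 : Tr := .node (.node (.node (.node (.leaf (nat_lit 5285))
  (.leaf (nat_lit 298)))
  (.node (.leaf (nat_lit 197))
  (.leaf (nat_lit 16399))))
  (.node (.node (.leaf (nat_lit 34))
  (.leaf (nat_lit 461)))
  (.node (.leaf (nat_lit 8199))
  (.leaf (nat_lit 562)))))
  (.node (.node (.node (.leaf (nat_lit 65))
  (.leaf (nat_lit 12299)))
  (.node (.leaf (nat_lit 166))
  (.leaf (nat_lit 593))))
  (.node (.node (.leaf (nat_lit 4099))
  (.leaf (nat_lit 430)))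
  (.leaf (nat_lit 329))))
def alt116_N_2 : Tr := .node (.node (.node (.node (.leaf (nat_lit 3171))
  (.leaf (nat_lit 298)))
  (.node (.leaf (nat_lit 3076))
  (.leaf (nat_lit 527))))
  (.node (.node (.leaf (nat_lit 34))
  (.leaf (nat_lit 11276)))
  (.node (.leaf (nat_lit 263))
  (.leaf (nat_lit 562)))))
  (.node (.node (.node (.leaf (nat_lit 167075))
  (.leaf (nat_lit 395)))
  (.node (.leaf (nat_lit 166))
  (.leaf (nat_lit 15376))))
  (.node (.node (.leaf (nat_lit 131))
  (.leaf (nat_lit 430)))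
  (.node (.leaf (nat_lit 7176))
  (.leaf (nat_lit 0)))))
def alt116_N_3 : Tr := .node (.node (.node (.node (.leaf (nat_lit 99425))
  (.leaf (nat_lit 9226)))
  (.node (.leaf (nat_lit 197))
  (.leaf (nat_lit 496))))
  (.node (.node (.leaf (nat_lit 1026))
  (.leaf (nat_lit 461)))
  (.node (.leaf (nat_lit 232))
  (.leaf (nat_lit 17426)))))
  (.node (.node (.node (.leaf (nat_lit 65))
  (.leaf (nat_lit 364)))
  (.node (.leaf (nat_lit 5126))
  (.leaf (nat_lit 593))))
  (.node (.node (.leaf (nat_lit 100))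
  (.leaf (nat_lit 13326)))
  (.leaf (nat_lit 329))))
def alt116_N : Tr := .node (.node alt116_N_0
  alt116_N_1)
  (.node alt116_N_2
  alt116_N_3)
noncomputable def alt116 : TC :=
  ⟨[.l 0, .l 1, .l 2, .l 3, .l 4, .l 5, .l 6, .l 7, .l 8, .l 9, .l 10, .l 11, .l 12, .l 13, .l 14, .l 15, .l 16, .l 17, .l 18],
    (nat_lit 3), (nat_lit 7), (nat_lit 0x464f835cb62547414c320440), (nat_lit 11), (nat_lit 5), (nat_lit 2), (nat_lit 32), (nat_lit 1), (nat_lit 62),
    get (nat_lit 10) (nat_lit 0x1003010030080400c02010030080400c02010030080400c02010030080400c02010030080400c02010030080400c02010030080400c02010030080400c02010030080400c02010040100300c03), Tr.get alt116_N, get (nat_lit 20) (nat_lit 0x3ff003ff003ff003ff003ff003ff003ff003ff003ff003ff003ff003ff003ff003ff003ff003ff003ff003ff003ff003ff003ff003ff003ff003ff003ff003ff003ff003ff003ff003ff003ff003ff003ff003ff003ff003ff003ff003ff003ff003ff003ff003ff003ff003ff003ff003ff003ff003ff003ff003ff003ff003ff003ff003ff003ff003ff000050000400003000020000100000),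
    Tr.get3 alt116_F (nat_lit 16) (nat_lit 5), Tr.get3 alt116_T (nat_lit 3) (nat_lit 8), Tr.get alt116_P⟩

theorem alt116_head : alt116.headOK alt116_rels altI11 = true := by decide +kernel

theorem alt116_b0 : allFrom (nat_lit 0) (nat_lit 1) alt116.blockOK = true := by decide +kernel

def alt116_Q5 : Tr := .leaf (nat_lit 32249282)
theorem alt116_f5_0 : allFrom (nat_lit 0) (nat_lit 5) (alt116.finOK (nat_lit 5) (Tr.get3 alt116_Q5 (nat_lit 5) (nat_lit 7)) (nat_lit 5)) = true := by
  decide +kernel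

def alt116_Q3 : Tr := .leaf (nat_lit 10185292)
theorem alt116_f3_0 : allFrom (nat_lit 0) (nat_lit 5) (alt116.finOK (nat_lit 5) (Tr.get3 alt116_Q3 (nat_lit 5) (nat_lit 7)) (nat_lit 3)) = true := by
  decide +kernel

def alt116_Q1 : Tr := .leaf (nat_lit 29610506)
theorem alt116_f1_0 : allFrom (nat_lit 0) (nat_lit 5) (alt116.finOK (nat_lit 5) (Tr.get3 alt116_Q1 (nat_lit 5) (nat_lit 7)) (nat_lit 1)) = true := by
  decide +kernel

theorem alt116_blocks : ∀ t < alt116.k, alt116.blockOK t = true :=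
  (of_allFrom_append of_lt_zero alt116_b0)

/-- index 5 max 5 total 5 facts 16 | needed cosets 5 facts 16 steps 24 trivial 0 -/
theorem alt116_index {G : Type*} [Group G] {γ : ℕ → G} (hL : Lab γ altI11) (hr : ∀ t ∈ alt116_rels, t.ev γ = 1) {K : Subgroup G}
    (hK : ∀ t ∈ ([.l 1, .l 3] : List W), t.ev γ ∈ K) :
    K.relIndex (genW γ [.l 1, .l 3, .l 5]) ≠ 0 ∧ K.relIndex (genW γ [.l 1, .l 3, .l 5]) ≤ 5 :=
  TC.relIndex_le (D := alt116) (gens := [1, 3, 5]) hL (List.forall_mem_cons.2 ⟨hL.zero_mem K, hK⟩) hr alt116_head alt116_blocks (by decide) (by decide)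
   (List.forall_mem_cons.2 ⟨⟨_, (of_allFrom_append of_lt_zero alt116_f1_0)⟩,
    List.forall_mem_cons.2 ⟨⟨_, (of_allFrom_append of_lt_zero alt116_f3_0)⟩,
    List.forall_mem_cons.2 ⟨⟨_, (of_allFrom_append of_lt_zero alt116_f5_0)⟩,
    fun _ h => absurd h List.not_mem_nil⟩⟩⟩)

def alt117_rels : List W := [.pow (.l 1) 3, .pow (.l 3) 3, .pow (.mul (.l 1) (.l 3)) 2]
def alt117_F : Tr := .leaf (nat_lit 0x98f161850524344040e247102230000)
def alt117_T : Tr := .leaf (nat_lit 228)
def alt117_P : Tr := .leaf (nat_lit 0x7fc007fc007fc007fc007fc007fc007fc007fc007fc007fc007fc007fc007fc007fc007fc007fc007fc007fc007fc007fc007fc007fc007fc007fc007fc007fc007fc007fc70a0e00404303800000210140000810500001)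
def alt117_N_0 : Tr := .node (.node (.node (.node (.leaf (nat_lit 1057))
  (.leaf (nat_lit 9226)))
  (.node (.leaf (nat_lit 197))
  (.leaf (nat_lit 496))))
  (.node (.node (.leaf (nat_lit 1026))
  (.leaf (nat_lit 461)))
  (.node (.leaf (nat_lit 232))
  (.leaf (nat_lit 17426)))))
  (.node (.node (.node (.leaf (nat_lit 65))
  (.leaf (nat_lit 364)))
  (.node (.leaf (nat_lit 5126))
  (.leaf (nat_lit 593))))
  (.node (.node (.leaf (nat_lit 100))
  (.leaf (nat_lit 13326)))
  (.leaf (nat_lit 329))))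
def alt117_N_1 : Tr := .node (.node (.node (.node (.leaf (nat_lit 99425))
  (.leaf (nat_lit 395)))
  (.node (.leaf (nat_lit 166))
  (.leaf (nat_lit 15376))))
  (.node (.node (.leaf (nat_lit 131))
  (.leaf (nat_lit 430)))
  (.node (.leaf (nat_lit 7176))
  (.leaf (nat_lit 0)))))
  (.node (.node (.node (.leaf (nat_lit 34))
  (.leaf (nat_lit 11276)))
  (.node (.leaf (nat_lit 263))
  (.leaf (nat_lit 562))))
  (.node (.node (.leaf (nat_lit 3076))
  (.leaf (nat_lit 527)))
  (.leaf (nat_lit 298))))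
def alt117_N_2 : Tr := .node (.node (.node (.node (.leaf (nat_lit 3171))
  (.leaf (nat_lit 395)))
  (.node (.leaf (nat_lit 6149))
  (.leaf (nat_lit 496))))
  (.node (.node (.leaf (nat_lit 131))
  (.leaf (nat_lit 14349)))
  (.node (.leaf (nat_lit 232))
  (.leaf (nat_lit 0)))))
  (.node (.node (.node (.leaf (nat_lit 2049))
  (.leaf (nat_lit 364)))
  (.node (.leaf (nat_lit 263))
  (.leaf (nat_lit 18449))))
  (.node (.node (.leaf (nat_lit 100))
  (.leaf (nat_lit 527)))
  (.leaf (nat_lit 10249))))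
def alt117_N_3 : Tr := .node (.node (.node (.node (.leaf (nat_lit 65))
  (.leaf (nat_lit 12299)))
  (.node (.leaf (nat_lit 166))
  (.leaf (nat_lit 593))))
  (.node (.node (.leaf (nat_lit 4099))
  (.leaf (nat_lit 430)))
  (.leaf (nat_lit 329))))
  (.node (.node (.node (.leaf (nat_lit 34))
  (.leaf (nat_lit 461)))
  (.node (.leaf (nat_lit 8199))
  (.leaf (nat_lit 562))))
  (.node (.node (.leaf (nat_lit 197))
  (.leaf (nat_lit 16399)))
  (.leaf (nat_lit 298))))
def alt117_N : Tr := .node (.node alt117_N_0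
  alt117_N_1)
  (.node alt117_N_2
  alt117_N_3)
noncomputable def alt117 : TC :=
  ⟨[.l 0, .l 1, .l 2, .l 3, .l 4, .l 5, .l 6, .l 7, .l 8, .l 9, .l 10, .l 11, .l 12, .l 13, .l 14, .l 15, .l 16, .l 17, .l 18],
    (nat_lit 2), (nat_lit 7), (nat_lit 0x464f835cb62547414c320440), (nat_lit 3), (nat_lit 4), (nat_lit 1), (nat_lit 32), (nat_lit 1), (nat_lit 59),
    get (nat_lit 10) (nat_lit 0x400c0400c02010030080400c02010030080400c02010030080400c02010030080400c02010030080400c02010030080400c02010030080400c02010030080400c02010030080400c03), Tr.get alt117_N, get (nat_lit 20) (nat_lit 0x3ff003ff003ff003ff003ff003ff003ff003ff003ff003ff003ff003ff003ff003ff003ff003ff003ff003ff003ff003ff003ff003ff003ff003ff003ff003ff003ff003ff003ff003ff003ff003ff003ff003ff003ff003ff003ff003ff003ff003ff003ff003ff003ff003ff003ff003ff003ff003ff003ff003ff003ff003ff003ff003ff003ff003ff000020000100000),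
    Tr.get3 alt117_F (nat_lit 14) (nat_lit 6), Tr.get3 alt117_T (nat_lit 2) (nat_lit 8), Tr.get alt117_P⟩

theorem alt117_head : alt117.headOK alt117_rels altI11 = true := by decide +kernel

theorem alt117_b0 : allFrom (nat_lit 0) (nat_lit 1) alt117.blockOK = true := by decide +kernel

def alt117_Q3 : Tr := .leaf (nat_lit 529730)
theorem alt117_f3_0 : allFrom (nat_lit 0) (nat_lit 4) (alt117.finOK (nat_lit 4) (Tr.get3 alt117_Q3 (nat_lit 5) (nat_lit 7)) (nat_lit 3)) = true := by
  decide +kernel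

def alt117_Q1 : Tr := .leaf (nat_lit 32456)
theorem alt117_f1_0 : allFrom (nat_lit 0) (nat_lit 4) (alt117.finOK (nat_lit 4) (Tr.get3 alt117_Q1 (nat_lit 4) (nat_lit 7)) (nat_lit 1)) = true := by
  decide +kernel

theorem alt117_blocks : ∀ t < alt117.k, alt117.blockOK t = true :=
  (of_allFrom_append of_lt_zero alt117_b0)

/-- index 4 max 4 total 4 facts 9 | needed cosets 4 facts 9 steps 10 trivial 0 -/
theorem alt117_index {G : Type*} [Group G] {γ : ℕ → G} (hL : Lab γ altI11) (hr : ∀ t ∈ alt117_rels, t.ev γ = 1) {K : Subgroup G}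
    (hK : ∀ t ∈ ([.l 1] : List W), t.ev γ ∈ K) :
    K.relIndex (genW γ [.l 1, .l 3]) ≠ 0 ∧ K.relIndex (genW γ [.l 1, .l 3]) ≤ 4 :=
  TC.relIndex_le (D := alt117) (gens := [1, 3]) hL (List.forall_mem_cons.2 ⟨hL.zero_mem K, hK⟩) hr alt117_head alt117_blocks (by decide) (by decide)
   (List.forall_mem_cons.2 ⟨⟨_, (of_allFrom_append of_lt_zero alt117_f1_0)⟩,
    List.forall_mem_cons.2 ⟨⟨_, (of_allFrom_append of_lt_zero alt117_f3_0)⟩,
    fun _ h => absurd h List.not_mem_nil⟩⟩)

def alt118_rels : List W := [.pow (.l 1) 3]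
def alt118_F : Tr := .leaf (nat_lit 0x14143081210000)
def alt118_T : Tr := .leaf (nat_lit 36)
def alt118_P : Tr := .leaf (nat_lit 0x7fc007fc007fc007fc007fc007fc007fc007fc007fc007fc007fc007fc007fc007fc007fc007fc007fc007fc007fc007fc007fc007fc007fc007fc007fc007fc007fc007fc007fc007fc007fc10500000)
def alt118_N_0 : Tr := .node (.node (.node (.node (.leaf (nat_lit 1057))
  (.leaf (nat_lit 395)))
  (.node (.leaf (nat_lit 166))
  (.leaf (nat_lit 15376))))
  (.node (.node (.leaf (nat_lit 131))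
  (.leaf (nat_lit 430)))
  (.node (.leaf (nat_lit 7176))
  (.leaf (nat_lit 0)))))
  (.node (.node (.node (.leaf (nat_lit 34))
  (.leaf (nat_lit 11276)))
  (.node (.leaf (nat_lit 263))
  (.leaf (nat_lit 562))))
  (.node (.node (.leaf (nat_lit 3076))
  (.leaf (nat_lit 527)))
  (.leaf (nat_lit 298))))
def alt118_N_1 : Tr := .node (.node (.node (.node (.leaf (nat_lit 65))
  (.leaf (nat_lit 364)))
  (.node (.leaf (nat_lit 5126))
  (.leaf (nat_lit 593))))
  (.node (.node (.leaf (nat_lit 100))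
  (.leaf (nat_lit 13326)))
  (.leaf (nat_lit 329))))
  (.node (.node (.node (.leaf (nat_lit 1026))
  (.leaf (nat_lit 461)))
  (.node (.leaf (nat_lit 232))
  (.leaf (nat_lit 17426))))
  (.node (.node (.leaf (nat_lit 197))
  (.leaf (nat_lit 496)))
  (.leaf (nat_lit 9226))))
def alt118_N_2 : Tr := .node (.node (.node (.node (.leaf (nat_lit 65))
  (.leaf (nat_lit 12299)))
  (.node (.leaf (nat_lit 166))
  (.leaf (nat_lit 593))))
  (.node (.node (.leaf (nat_lit 4099))
  (.leaf (nat_lit 430)))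
  (.leaf (nat_lit 329))))
  (.node (.node (.node (.leaf (nat_lit 34))
  (.leaf (nat_lit 461)))
  (.node (.leaf (nat_lit 8199))
  (.leaf (nat_lit 562))))
  (.node (.node (.leaf (nat_lit 197))
  (.leaf (nat_lit 16399)))
  (.leaf (nat_lit 298))))
def alt118_N_3 : Tr := .node (.node (.node (.node (.leaf (nat_lit 2049))
  (.leaf (nat_lit 364)))
  (.node (.leaf (nat_lit 263))
  (.leaf (nat_lit 18449))))
  (.node (.node (.leaf (nat_lit 100))
  (.leaf (nat_lit 527)))
  (.leaf (nat_lit 10249))))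
  (.node (.node (.node (.leaf (nat_lit 131))
  (.leaf (nat_lit 14349)))
  (.node (.leaf (nat_lit 232))
  (.leaf (nat_lit 0))))
  (.node (.node (.leaf (nat_lit 6149))
  (.leaf (nat_lit 496)))
  (.leaf (nat_lit 395))))
def alt118_N : Tr := .node (.node alt118_N_0
  alt118_N_1)
  (.node alt118_N_2
  alt118_N_3)
noncomputable def alt118 : TC :=
  ⟨[.l 0, .l 1, .l 2, .l 3, .l 4, .l 5, .l 6, .l 7, .l 8, .l 9, .l 10, .l 11, .l 12, .l 13, .l 14, .l 15, .l 16, .l 17, .l 18],
    (nat_lit 2), (nat_lit 7), (nat_lit 0x464f835cb62547414c320440), (nat_lit 1), (nat_lit 3), (nat_lit 0), (nat_lit 32), (nat_lit 1), (nat_lit 57),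
    get (nat_lit 10) (nat_lit 0x400c0400c02010030080400c02010030080400c02010030080400c02010030080400c02010030080400c02010030080400c02010030080400c02010030080400c020100300803), Tr.get alt118_N, get (nat_lit 20) (nat_lit 0x3ff003ff003ff003ff003ff003ff003ff003ff003ff003ff003ff003ff003ff003ff003ff003ff003ff003ff003ff003ff003ff003ff003ff003ff003ff003ff003ff003ff003ff003ff003ff003ff003ff003ff003ff003ff003ff003ff003ff003ff003ff003ff003ff003ff003ff003ff003ff003ff003ff003ff003ff003ff003ff003ff003ff003ff00000),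
    Tr.get3 alt118_F (nat_lit 14) (nat_lit 6), Tr.get3 alt118_T (nat_lit 2) (nat_lit 8), Tr.get alt118_P⟩

theorem alt118_head : alt118.headOK alt118_rels altI11 = true := by decide +kernel

theorem alt118_b0 : allFrom (nat_lit 0) (nat_lit 1) alt118.blockOK = true := by decide +kernel

def alt118_Q1 : Tr := .leaf (nat_lit 370)
theorem alt118_f1_0 : allFrom (nat_lit 0) (nat_lit 3) (alt118.finOK (nat_lit 3) (Tr.get3 alt118_Q1 (nat_lit 3) (nat_lit 8)) (nat_lit 1)) = true := by
  decide +kernel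

theorem alt118_blocks : ∀ t < alt118.k, alt118.blockOK t = true :=
  (of_allFrom_append of_lt_zero alt118_b0)

/-- index 3 max 3 total 3 facts 4 | needed cosets 3 facts 4 steps 2 trivial 0 -/
theorem alt118_index {G : Type*} [Group G] {γ : ℕ → G} (hL : Lab γ altI11) (hr : ∀ t ∈ alt118_rels, t.ev γ = 1) {K : Subgroup G}
    (hK : ∀ t ∈ ([] : List W), t.ev γ ∈ K) :
    K.relIndex (genW γ [.l 1]) ≠ 0 ∧ K.relIndex (genW γ [.l 1]) ≤ 3 :=
  TC.relIndex_le (D := alt118) (gens := [1]) hL (List.forall_mem_cons.2 ⟨hL.zero_mem K, hK⟩) hr alt118_head alt118_blocks (by decide) (by decide)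
   (List.forall_mem_cons.2 ⟨⟨_, (of_allFrom_append of_lt_zero alt118_f1_0)⟩,
    fun _ h => absurd h List.not_mem_nil⟩)

theorem card_alt11 {G : Type*} [Group G] {γ : ℕ → G} (hL : Lab γ altI11) (hr : ∀ t ∈ altT11, t.ev γ = 1) :
    Nat.card (genW γ [.l 1, .l 3, .l 5, .l 7, .l 9, .l 11, .l 13, .l 15, .l 17]) ≠ 0 ∧ Nat.card (genW γ [.l 1, .l 3, .l 5, .l 7, .l 9, .l 11, .l 13, .l 15, .l 17]) ≤ 11 * (10 * (9 * (8 * (7 * (6 * (5 * (4 * (3 * (1))))))))) :=
  (card_le_of_relIndex (K := genW γ [.l 1, .l 3, .l 5, .l 7, .l 9, .l 11, .l 13, .l 15]) (genW_le_of_subOK hL [] hr (by decide +kernel))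
    (alt110_index hL (rels_of_isIn hr (by decide +kernel)) fun _ => mem_genW γ)
    (card_le_of_relIndex (K := genW γ [.l 1, .l 3, .l 5, .l 7, .l 9, .l 11, .l 13]) (genW_le_of_subOK hL [] hr (by decide +kernel))
    (alt111_index hL (rels_of_isIn hr (by decide +kernel)) fun _ => mem_genW γ)
    (card_le_of_relIndex (K := genW γ [.l 1, .l 3, .l 5, .l 7, .l 9, .l 11]) (genW_le_of_subOK hL [] hr (by decide +kernel))
    (alt112_index hL (rels_of_isIn hr (by decide +kernel)) fun _ => mem_genW γ)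
    (card_le_of_relIndex (K := genW γ [.l 1, .l 3, .l 5, .l 7, .l 9]) (genW_le_of_subOK hL [] hr (by decide +kernel))
    (alt113_index hL (rels_of_isIn hr (by decide +kernel)) fun _ => mem_genW γ)
    (card_le_of_relIndex (K := genW γ [.l 1, .l 3, .l 5, .l 7]) (genW_le_of_subOK hL [] hr (by decide +kernel))
    (alt114_index hL (rels_of_isIn hr (by decide +kernel)) fun _ => mem_genW γ)
    (card_le_of_relIndex (K := genW γ [.l 1, .l 3, .l 5]) (genW_le_of_subOK hL [] hr (by decide +kernel))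
    (alt115_index hL (rels_of_isIn hr (by decide +kernel)) fun _ => mem_genW γ)
    (card_le_of_relIndex (K := genW γ [.l 1, .l 3]) (genW_le_of_subOK hL [] hr (by decide +kernel))
    (alt116_index hL (rels_of_isIn hr (by decide +kernel)) fun _ => mem_genW γ)
    (card_le_of_relIndex (K := genW γ [.l 1]) (genW_le_of_subOK hL [] hr (by decide +kernel))
    (alt117_index hL (rels_of_isIn hr (by decide +kernel)) fun _ => mem_genW γ)
    (card_le_of_relIndex bot_le (alt118_index hL (rels_of_isIn hr (by decide +kernel)) (by simp)) card_bot_le)))))))))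
def altC11_C : ℕ := (nat_lit 0x98765432a1a0876543291a9076543281a9806543271a9870543261a9876043251a9876503241a9876540231a9876543021198765430a2298765431a0398765401a2498765031a2598760431a2698705431a2798065431a2890765431a2908765431a2a0975243186a9861504273a3965204781a6072143895a4915230687a1362704895a5671843902a7412630895a8351764902a2578943061a9642057381a9386715024a9536827401a9762480135a9253104768a9072634518a9423561870a9143275086a9875106423a9816437502a9806371425a9825067134a9835672041a9854261073a9841357260a9861574302a9876304125a9871365420a9872513640a9874325160a9870413265a9875024163a9873046215a9876425301a9876123045a9876035124a9876201354a9876310542a9876514023a9876524103a9876501234a9876530142a9876542301a9876540231a9876541203a9876543021a9876543102a9876543210)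
noncomputable def altC11_code : ℕ → ℕ := get (nat_lit 44) altC11_C
def altC11_R0 : ℕ := (nat_lit 0x63359c99e0e000014000102b1200500000a00005489ad828000050000015214410000028000003aab80800001400000000970200000a000000000200800005000000000080400002800fad9f02c0c00001205f2ace4cf0700000005f08dfbdb03800004a46696a1858200000263aa13d502c100000120eabdef8160700000905e91e7c0b03800004c69a1b3e058200000240c5ed9f02c0e0000120002ea9001050000080017f4d8138300000400040cac4801800000000610258620c0000100002edd50105000008000053e000828000040000a664004140000200bc4f520020e00001000214a900106000008000006fc3d02000003824219949601c00001c007eb66c840c00000e000007135b04000000000006ee75020000038000022c9e81000001c0002a090f40a00000e001f60f87a06000007000057fc3d028000038000007570c100000181d567a00b80e00000c00029b24d505000006000053bfa302800003000015921441400000000000df0460800000c000000259303000006000000e661820000030000000970c0c0000180000071cb60800000a00015927b9050000050000d4126982800002800000ef5e01000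001400015575600a00000a000003855c040000000000000e5d818000028000000056c08000014000003bcb60800000a00000000c802000004000fda0fe58300000200c9f84d57c1c00001000029d0dae0a0000080000a762f205000004000000007f010000020000000265c0c00000000000000d00400000800000012c803000004000000003281000001800fc29b7341800000c0bc3b7cd480e000006000008e81904000003000001d0a782000001800000e3ae81000000c000000258c06000006000000003402000000000000001a8100000180000000004040000080be559c99e0e000004001032b1200600000200000389ad8200000100001592144140000080000070ab808000004000000099703000002000000001a010000010000000000000000000000000000202000014000000000000000009000000000000000004000000000000000001c00000000000000000c000000000000000005000000000000000002000000000000000000c0000000000000000040000000002010000010317b67c0b03800000800852a40041800000400015ff0f40a00000200000025c303000001000000ef2d8200000080000004b200c000004000000006a04000002000000000000000001)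
def altC11_D0 : ℕ := (nat_lit 0x2d490241fe448c17582c00000000134040000000009202000000000450100000000020808000000000f4040000000007202000000000350100000000018808000000000100400000000000000000000000000000000000000000000000000000000000000000000000000000000000000000000000000000000000000000000000)
noncomputable def altC11_L0 : Lv :=
  ⟨(nat_lit 57), (nat_lit 66), (nat_lit 10), (nat_lit 11), (nat_lit 10), get (nat_lit 15) (nat_lit 0x1800b1016402cc05a00b5016c02dc05c00c101),
    fun l x => get (nat_lit 73) altC11_R0 (Nat.add (Nat.mul x (nat_lit 9)) (Nat.sub l (nat_lit 57))), get (nat_lit 53) altC11_D0⟩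
def altC11_R1 : ℕ := (nat_lit 0x5ff00c000026ec03b7800e0000137afa90f00700000800325fa20280000380000000000000018000000000000000a0000000000000001000000000000000132fefa3541c0000140b809c3c0c0000080000000000000000660eb2e88380000180000000000000012f57430a60e0000020000e9020400000200000000000000040000000000000001c000000000000000c0000000000000003)
def altC11_D1 : ℕ := (nat_lit 0xbdf28cab15f2878280592df11403800000000006c0400000000002802000000000012010000000000048080000000000200400000000000902000000000000010000000000004080000000000000000000000000000)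
noncomputable def altC11_L1 : Lv :=
  ⟨(nat_lit 46), (nat_lit 48), (nat_lit 9), (nat_lit 10), (nat_lit 9), get (nat_lit 14) (nat_lit 0x2701a006c01a406b01b406601a806f01),
    fun l x => get (nat_lit 65) altC11_R1 (Nat.add (Nat.mul x (nat_lit 2)) (Nat.sub l (nat_lit 46))), get (nat_lit 57) altC11_D1⟩
def altC11_R2 : ℕ := (nat_lit 0x18000000000000030000000000000130dbdde0600000800000000000000801571d040000060000000000000000dafc705000007036e6c4140000141a8aa20500000100000000000001c00000000000005036bb581400000c1a120505000000c99bbe01800002040e240050000020000000000000041a162605000004)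
def altC11_D2 : ℕ := (nat_lit 0x288bde040402000800004604000048080000501000000020000060400000c08000000000000000)
noncomputable def altC11_L2 : Lv :=
  ⟨(nat_lit 36), (nat_lit 38), (nat_lit 8), (nat_lit 9), (nat_lit 8), get (nat_lit 14) (nat_lit 0x88065018c05f0190061017806001),
    fun l x => get (nat_lit 58) altC11_R2 (Nat.add (Nat.mul x (nat_lit 2)) (Nat.sub l (nat_lit 36))), get (nat_lit 31) altC11_D2⟩
def altC11_R3 : ℕ := (nat_lit 0xfbd0c0a00000e0000000000004710a02000002800560200000600970060000023788010000013d7c4028000007b51d05000003000000000000c00c500c00001c0000000000020000000000005000000000000400000000000000000000000018001201000002)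
def altC11_D3 : ℕ := (nat_lit 0xe9dd06024105001c02001202001002000802000302000302000000000000)
noncomputable def altC11_L3 : Lv :=
  ⟨(nat_lit 28), (nat_lit 30), (nat_lit 7), (nat_lit 8), (nat_lit 7), get (nat_lit 13) (nat_lit 0x5807003701c80e807803b01),
    fun l x => get (nat_lit 51) altC11_R3 (Nat.add (Nat.mul x (nat_lit 2)) (Nat.sub l (nat_lit 28))), get (nat_lit 24) altC11_D3⟩
def altC11_R4 : ℕ := (nat_lit 0x3e4e0800000c000000000012040180000180000000000c0000000000000000000006eb282000002045c0c0000143f00600000200000000004006808000010000000000080000000000a13903000000)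
def altC11_D4 : ℕ := (nat_lit 0x24920908ccb9b81200007c080000a0100000c0200000e0400000c08000000000000000)
noncomputable def altC11_L4 : Lv :=
  ⟨(nat_lit 20), (nat_lit 22), (nat_lit 6), (nat_lit 7), (nat_lit 6), get (nat_lit 13) (nat_lit 0x2003201780cc06803101),
    fun l x => get (nat_lit 45) altC11_R4 (Nat.add (Nat.mul x (nat_lit 2)) (Nat.sub l (nat_lit 20))), get (nat_lit 31) altC11_D4⟩
def altC11_R5 : ℕ := (nat_lit 0x2000000000044c0400000400000000020d81000002bbc0c00000c00000000061002000000000000000022c0c0000100e020000030003000005)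
def altC11_D5 : ℕ := (nat_lit 0x99e9770d0049da0800000c0200000102000002020000000000000000)
noncomputable def altC11_L5 : Lv :=
  ⟨(nat_lit 13), (nat_lit 15), (nat_lit 5), (nat_lit 6), (nat_lit 5), get (nat_lit 12) (nat_lit 0xe01a01b01d01c01),
    fun l x => get (nat_lit 41) altC11_R5 (Nat.add (Nat.mul x (nat_lit 2)) (Nat.sub l (nat_lit 13))), get (nat_lit 32) altC11_D5⟩
def altC11_R6 : ℕ := (nat_lit 0x200000000200000000208040000100000000003010000015810000014408000001404000006000000003)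
noncomputable def altC11_L6 : Lv :=
  ⟨(nat_lit 8), (nat_lit 10), (nat_lit 4), (nat_lit 5), (nat_lit 4), get (nat_lit 12) (nat_lit 105656221701889),
    fun l x => get (nat_lit 37) altC11_R6 (Nat.add (Nat.mul x (nat_lit 2)) (Nat.sub l (nat_lit 8))), get (nat_lit 15) (nat_lit 0xf8251060e0408080000000)⟩
def altC11_R7 : ℕ := (nat_lit 0x80000000000000000d010000024040000000000000380400000400000001)
noncomputable def altC11_L7 : Lv :=
  ⟨(nat_lit 4), (nat_lit 6), (nat_lit 3), (nat_lit 4), (nat_lit 3), get (nat_lit 11) (nat_lit 5374479361),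
    fun l x => get (nat_lit 34) altC11_R7 (Nat.add (Nat.mul x (nat_lit 2)) (Nat.sub l (nat_lit 4))), get (nat_lit 18) (nat_lit 0xb881c0302000000000)⟩
noncomputable def altC11_L8 : Lv :=
  ⟨(nat_lit 2), (nat_lit 3), (nat_lit 2), (nat_lit 3), (nat_lit 2), get (nat_lit 10) (nat_lit 263681),
    fun l x => get (nat_lit 2) (nat_lit 9) (Nat.add (Nat.mul x (nat_lit 1)) (Nat.sub l (nat_lit 2))), get (nat_lit 2) (nat_lit 8)⟩
noncomputable def altC11_lvs : List Lv := [altC11_L0, altC11_L1, altC11_L2, altC11_L3, altC11_L4, altC11_L5, altC11_L6, altC11_L7, altC11_L8]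

theorem altC11_ok : chainOK (apT (nat_lit 11) (nat_lit 4) altC11_code) (imgT (nat_lit 4)) altC11_code (idc (nat_lit 11) (nat_lit 4)) (nat_lit 11) altC11_lvs = true := by
  decide +kernel

theorem altC11_eng {G X : Type*} [Group G] [MulAction G X] {pt : ℕ → X} (hf : Faithful G 11 pt) :
    Eng (G := G) (Rep 11 4 pt) (idc (nat_lit 11) (nat_lit 4)) altC11_code (apT (nat_lit 11) (nat_lit 4) altC11_code) (topC altC11_lvs) :=
  eng_perm (by decide) (by decide) hf _ _

/-- order 19958400, base [10, 9, 8, 7, 6, 5, 4, 3, 2], orbit lengths [11, 10, 9, 8, 7, 6, 5, 4, 3] -/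
theorem altC11_chain {G X : Type*} [Group G] [MulAction G X] {pt : ℕ → X} (hi : Inj 11 pt) (hf : Faithful G 11 pt)
    {gs : List G} (h : List.Forall₂ (Rep 11 4 pt) gs [11649936535585, 11649936523825, 11649936273985, 11649931293265, 11649835872865, 11648057487985, 11615576797825, 11031461245585, 654820258465]) :
    Chain (Rep 11 4 pt) altC11_code pt altC11_lvs (Subgroup.closure {s | s ∈ gs}) :=
  (altC11_eng hf).chain_list (img_rep hi) le_rfl h (by decide +kernel) (.of_chainOK altC11_ok)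

theorem altC11_ord : ordL altC11_lvs = 19958400 := by decide +kernel

/-- The relators of the alternating group of degree 11. -/
def altR11 : List W := [.pow (.l 0) 3, .pow (.l 1) 3, .pow (.l 2) 3, .pow (.l 3) 3, .pow (.l 4) 3, .pow (.l 5) 3, .pow (.l 6) 3, .pow (.l 7) 3, .pow (.l 8) 3, .pow (.mul (.l 0) (.l 1)) 2, .pow (.mul (.l 0) (.l 2)) 2, .pow (.mul (.l 0) (.l 3)) 2, .pow (.mul (.l 0) (.l 4)) 2, .pow (.mul (.l 0) (.l 5)) 2, .pow (.mul (.l 0) (.l 6)) 2, .pow (.mul (.l 0) (.l 7)) 2, .pow (.mul (.l 0) (.l 8)) 2, .pow (.mul (.l 1) (.l 2)) 2, .pow (.mul (.l 1) (.l 3)) 2, .pow (.mul (.l 1) (.l 4)) 2, .pow (.mul (.l 1) (.l 5)) 2, .pow (.mul (.l 1) (.l 6)) 2, .pow (.mul (.l 1) (.l 7)) 2, .pow (.mul (.l 1) (.l 8)) 2, .pow (.mul (.l 2) (.l 3)) 2, .pow (.mul (.l 2) (.l 4)) 2, .pow (.mul (.l 2) (.l 5)) 2, .pow (.mul (.l 2) (.l 6)) 2, .pow (.mul (.l 2) (.l 7)) 2, .pow (.mul (.l 2) (.l 8)) 2, .pow (.mul (.l 3) (.l 4)) 2, .pow (.mul (.l 3) (.l 5)) 2, .pow (.mul (.l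 3) (.l 6)) 2, .pow (.mul (.l 3) (.l 7)) 2, .pow (.mul (.l 3) (.l 8)) 2, .pow (.mul (.l 4) (.l 5)) 2, .pow (.mul (.l 4) (.l 6)) 2, .pow (.mul (.l 4) (.l 7)) 2, .pow (.mul (.l 4) (.l 8)) 2, .pow (.mul (.l 5) (.l 6)) 2, .pow (.mul (.l 5) (.l 7)) 2, .pow (.mul (.l 5) (.l 8)) 2, .pow (.mul (.l 6) (.l 7)) 2, .pow (.mul (.l 6) (.l 8)) 2, .pow (.mul (.l 7) (.l 8)) 2]

/-- Letters with inverses. -/
def altL11 {Q : Type*} [Group Q] (x : ℕ → Q) (c : ℕ) : Q := (1 :: [x 0, (x 0)⁻¹, x 1, (x 1)⁻¹, x 2, (x 2)⁻¹, x 3, (x 3)⁻¹, x 4, (x 4)⁻¹, x 5, (x 5)⁻¹, x 6, (x 6)⁻¹, x 7, (x 7)⁻¹, x 8, (x 8)⁻¹]).getD c 1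

theorem altL11_lab {Q : Type*} [Group Q] (x : ℕ → Q) : Lab (altL11 x) altI11 := by
  refine Lab.of_list (show altI11 < 2 ^ (5 * 19) by decide +kernel) fun c hc => ?_
  change c < 19 at hc
  interval_cases c <;> first | exact mul_one _ | exact inv_mul_cancel _ | exact mul_inv_cancel _

theorem altL11_rels {Q : Type*} [Group Q] {x : ℕ → Q} (hr : ∀ t ∈ altR11, t.ev x = 1) :
    ∀ t ∈ altT11, t.ev (altL11 x) = 1 := by
  simp only [altR11, altT11, List.forall_mem_cons, List.not_mem_nil, false_imp_iff, imp_true_iff] at hr ⊢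
  exact hr

theorem exists_alt11 {Q : Type*} [Group Q] {x : ℕ → Q} (hr : ∀ t ∈ altR11, t.ev x = 1) (h0 : x 0 ≠ 1) :
    ∃ φ : alternatingGroup (Fin 11) →* Q, Function.Injective φ := by
  let y : ℕ → Equiv.Perm (Fin 11) := fun i => Equiv.swap 0 (finPt 11 (i + 2)) * Equiv.swap 0 1
  have h1 : ∀ t ∈ altR11, t.ev y = 1 := by decide +kernel
  have h2 : Nat.card (genW (altL11 y) [.l 1, .l 3, .l 5, .l 7, .l 9, .l 11, .l 13, .l 15, .l 17]) = 19958400 := by
    rw [genW_eq_closure]
    refine (altC11_chain (inj_finPt 11) (faithful_finPt 11) ?_).card.trans altC11_ord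
    simp only [List.map, List.forall₂_cons, List.forall₂_nil_left_iff, and_true, Calc.Rep]
    decide +kernel
  have h3 : genW (altL11 y) [.l 1, .l 3, .l 5, .l 7, .l 9, .l 11, .l 13, .l 15, .l 17] = alternatingGroup (Fin 11) :=
    Subgroup.eq_of_le_of_card_ge (genW_le.2 (by simp only [Equiv.Perm.mem_alternatingGroup]; decide +kernel)) (by
      have := two_mul_nat_card_alternatingGroup (α := Fin 11)
      rw [Nat.card_perm, Nat.card_fin, show Nat.factorial 11 = 2 * 19958400 from rfl] at this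
      omega)
  obtain ⟨φ, -, h⟩ := exists_hom_of_card_le (γ := altL11 y) (γ' := altL11 x) rfl rfl (card_alt11 ((altL11_lab y).prod (altL11_lab x))
    fun t k => by rw [W.ev_prod, altL11_rels h1 t k, altL11_rels hr t k]; rfl) h2.ge
  have := alternatingGroup.isSimpleGroup (α := Fin 11) (by simp)
  let ψ := φ.comp (MulEquiv.subgroupCongr h3).symm.toMonoidHom
  refine ⟨ψ, (MonoidHom.ker_eq_bot_iff ψ).1 (ψ.normal_ker.eq_bot_or_eq_top.resolve_right fun e => h0 ?_)⟩
  have k : (W.l 1).ev (altL11 y) ∈ genW (altL11 y) [.l 1, .l 3, .l 5, .l 7, .l 9, .l 11, .l 13, .l 15, .l 17] := mem_genW _ List.mem_cons_self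
  exact (h (.l 1) k rfl).symm.trans (e ▸ Subgroup.mem_top _ : (⟨_, h3 ▸ k⟩ : alternatingGroup _) ∈ ψ.ker)

end Cfsg.Lib.Big
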