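import Cfsg.Agent.Lib.Calc.Model2
import Cfsg.Agent.Lib.Calc.Iso

/-!
# A presentation of the alternating group of degree 9
-/

set_option autoImplicit false
set_option maxRecDepth 1000000
set_option maxHeartbeats 0

namespace Cfsg.Lib.Big

open Cfsg.Lib.Calc

/-- Relators. -/
def altT9 : List W := [.pow (.l 1) 3, .pow (.l 3) 3, .pow (.l 5) 3, .pow (.l 7) 3, .pow (.l 9) 3, .pow (.l 11) 3, .pow (.l 13) 3, .pow (.mul (.l 1) (.l 3)) 2, .pow (.mul (.l 1) (.l 5)) 2, .pow (.mul (.l 1) (.l 7)) 2, .pow (.mul (.l 1) (.l 9)) 2, .pow (.mul (.l 1) (.l 11)) 2, .pow (.mul (.l 1) (.l 13)) 2, .pow (.mul (.l 3) (.l 5)) 2, .pow (.mul (.l 3) (.l 7)) 2, .pow (.mul (.l 3) (.l 9)) 2, .pow (.mul (.l 3) (.l 11)) 2, .pow (.mul (.l 3) (.l 13)) 2, .pow (.mul (.l 5) (.l 7)) 2, .pow (.mul (.l 5) (.l 9)) 2, .pow (.mul (.l 5) (.l 11)) 2, .pow (.mul (.l 5) (.l 13)) 2, .pow (.mul (.l 7) (.l 9)) 2, .pow (.mul (.l 7) (.l 11)) 2, .pow (.mul (.l 7) (.l 13)) 2, .pow (.mul (.l 9) (.l 11))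 2, .pow (.mul (.l 9) (.l 13)) 2, .pow (.mul (.l 11) (.l 13)) 2]
/-- Inverses. -/
def altI9 : ℕ := nat_lit 15877324878425032361024
def alt90_rels : List W := [.pow (.l 1) 3, .pow (.l 3) 3, .pow (.l 5) 3, .pow (.l 7) 3, .pow (.l 9) 3, .pow (.l 11) 3, .pow (.l 13) 3, .pow (.mul (.l 1) (.l 3)) 2, .pow (.mul (.l 1) (.l 5)) 2, .pow (.mul (.l 1) (.l 7)) 2, .pow (.mul (.l 1) (.l 9)) 2, .pow (.mul (.l 1) (.l 11)) 2, .pow (.mul (.l 1) (.l 13)) 2, .pow (.mul (.l 3) (.l 5)) 2, .pow (.mul (.l 3) (.l 7)) 2, .pow (.mul (.l 3) (.l 9)) 2, .pow (.mul (.l 3) (.l 11)) 2, .pow (.mul (.l 3) (.l 13)) 2, .pow (.mul (.l 5) (.l 7)) 2, .pow (.mul (.l 5) (.l 9)) 2, .pow (.mul (.l 5) (.l 11)) 2, .pow (.mul (.l 5) (.l 13)) 2, .pow (.mul (.l 7) (.l 9)) 2, .pow (.mul (.l 7) (.l 11)) 2, .pow (.mul (.l 7) (.l 13)) 2, .pow (.mul (.l 9) (.l 11)) 2, .pow (.mul (.l 9) (.l 13)) 2, .pow (.mul (.l 11) (.l 13)) 2]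
def alt90_F : Tr := .leaf (nat_lit 0x743615098441e0d058240e05018642c9ced763add0e773395c8e371385d4e92733598cb653258cc56230d84c16431c9cad562ad54a95429d48a3512854ca527235188b4522510874321504814220c9c6d361acd4693419ccc653218cc4612612c54491411c4c451210c444117134580b05024100703014080301004170c14ba84ec812a984684109885a4e070b400000)
def alt90_T : Tr := .leaf (nat_lit 36344967696)
def alt90_P : Tr := .node (.leaf (nat_lit 0x56240d0001256220d0000e56200d00009260d00003481e0b00215482a0b0021448280b0021348260b0021248220b0000d48200b00008240b000023a1e09002113a2a09002103a28090020f3a26090020e3a24090020d3a2009000072209000012c1e070020c2c2a070020b2c28070020a2c2607002092c2407002082c220700207200700000021c050001b021a050001a0218050001802160500015021405000110212050000c020500006))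
  (.leaf (nat_lit 0x1ff001ff001ff001ff001ff001ff001ff001ff001ff001ff001ff001ff001ff001ff001ff721e110021b722811000197226110001772241100014722211000107220110000b2a1100005641e0f0021a642a0f0021964260f0001664240f0001364220f0000f64200f0000a280f00004561e0d00218562a0d0021756280d00216))
def alt90_N_0 : Tr := .node (.node (.node (.node (.leaf (nat_lit 1057))
  (.leaf (nat_lit 461)))
  (.leaf (nat_lit 34)))
  (.node (.leaf (nat_lit 363875))
  (.leaf (nat_lit 8199))))
  (.node (.node (.leaf (nat_lit 165025))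
  (.leaf (nat_lit 197)))
  (.node (.leaf (nat_lit 433575))
  (.leaf (nat_lit 298))))
def alt90_N_1 : Tr := .node (.node (.node (.node (.leaf (nat_lit 9513))
  (.leaf (nat_lit 430)))
  (.leaf (nat_lit 4099)))
  (.node (.leaf (nat_lit 365925))
  (.leaf (nat_lit 329))))
  (.node (.node (.leaf (nat_lit 427425))
  (.leaf (nat_lit 166)))
  (.node (.leaf (nat_lit 65))
  (.leaf (nat_lit 12299))))
def alt90_N_2 : Tr := .node (.node (.node (.node (.leaf (nat_lit 5285))
  (.leaf (nat_lit 14349)))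
  (.leaf (nat_lit 131)))
  (.node (.leaf (nat_lit 234725))
  (.leaf (nat_lit 232))))
  (.node (.node (.leaf (nat_lit 296225))
  (.leaf (nat_lit 6149)))
  (.node (.leaf (nat_lit 435625))
  (.leaf (nat_lit 395))))
def alt90_N_3 : Tr := .node (.node (.node (.node (.leaf (nat_lit 13741))
  (.leaf (nat_lit 0)))
  (.leaf (nat_lit 100)))
  (.node (.leaf (nat_lit 302375))
  (.leaf (nat_lit 10249))))
  (.node (.node (.leaf (nat_lit 232675))
  (.leaf (nat_lit 263)))
  (.node (.leaf (nat_lit 2049))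
  (.leaf (nat_lit 364))))
def alt90_N_4 : Tr := .node (.node (.node (.node (.leaf (nat_lit 3171))
  (.leaf (nat_lit 461)))
  (.leaf (nat_lit 1026)))
  (.node (.leaf (nat_lit 429475))
  (.leaf (nat_lit 232))))
  (.node (.node (.leaf (nat_lit 230625))
  (.leaf (nat_lit 197)))
  (.node (.leaf (nat_lit 370025))
  (.leaf (nat_lit 9226))))
def alt90_N_5 : Tr := .node (.node (.node (.node (.leaf (nat_lit 11627))
  (.leaf (nat_lit 13326)))
  (.leaf (nat_lit 100)))
  (.node (.leaf (nat_lit 431525))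
  (.leaf (nat_lit 329))))
  (.node (.node (.leaf (nat_lit 167075))
  (.leaf (nat_lit 5126)))
  (.node (.leaf (nat_lit 65))
  (.leaf (nat_lit 364))))
def alt90_N_6 : Tr := .node (.node (.node (.node (.leaf (nat_lit 7399))
  (.leaf (nat_lit 430)))
  (.leaf (nat_lit 131)))
  (.node (.leaf (nat_lit 300325))
  (.leaf (nat_lit 7176))))
  (.node (.node (.leaf (nat_lit 361825))
  (.leaf (nat_lit 166)))
  (.node (.leaf (nat_lit 437675))
  (.leaf (nat_lit 395))))
def alt90_N_7 : Tr := .node (.node (.node (.node (.leaf (nat_lit 99425))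
  (.leaf (nat_lit 0)))
  (.leaf (nat_lit 3076)))
  (.node (.leaf (nat_lit 367975))
  (.leaf (nat_lit 298))))
  (.node (.node (.leaf (nat_lit 298275))
  (.leaf (nat_lit 263)))
  (.node (.leaf (nat_lit 34))
  (.leaf (nat_lit 11276))))
def alt90_N : Tr := .node (.node (.node alt90_N_0
  alt90_N_1)
  (.node alt90_N_2
  alt90_N_3))
  (.node (.node alt90_N_4
  alt90_N_5)
  (.node alt90_N_6
  alt90_N_7))
noncomputable def alt90 : TC :=
  ⟨[.l 0, .l 1, .l 2, .l 3, .l 4, .l 5, .l 6, .l 7, .l 8, .l 9, .l 10, .l 11, .l 12, .l 13, .l 14],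
    (nat_lit 4), (nat_lit 8), (nat_lit 0x35cb62547414c320440), (nat_lit 2731), (nat_lit 9), (nat_lit 6), (nat_lit 32), (nat_lit 2), (nat_lit 72),
    get (nat_lit 10) (nat_lit 0x1003010030080400c02010030080400c02010030080400c02010030080400c02010030080400c02010030080400c02010030080400c02010040100401004010040100401004010040100401004010040100300c0300c0300c03), Tr.get alt90_N, get (nat_lit 20) (nat_lit 0x3ff003ff003ff003ff003ff003ff003ff003ff003ff003ff003ff003ff003ff003ff003ff003ff003ff003ff003ff003ff003ff003ff003ff003ff003ff003ff003ff003ff003ff003ff003ff003ff003ff003ff003ff003ff003ff003ff003ff003ff003ff003ff003ff003ff0001b0001a000190001800017000160001500014000130001200011000100000f0000e0000d0000c0000b0000a00009000080000700006000050000400003000020000100000),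
    Tr.get3 alt90_F (nat_lit 18) (nat_lit 5), Tr.get3 alt90_T (nat_lit 4) (nat_lit 7), Tr.get alt90_P⟩

theorem alt90_head : alt90.headOK alt90_rels altI9 = true := by decide +kernel

theorem alt90_b0 : allFrom (nat_lit 0) (nat_lit 2) alt90.blockOK = true := by decide +kernel

def alt90_Q13 : Tr := .leaf (nat_lit 0x7ee18aa467014f02)
theorem alt90_f13_0 : allFrom (nat_lit 0) (nat_lit 9) (alt90.finOK (nat_lit 9) (Tr.get3 alt90_Q13 (nat_lit 7) (nat_lit 7)) (nat_lit 13)) = true := by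
  decide +kernel

def alt90_Q11 : Tr := .leaf (nat_lit 0x11dd829446dc951c)
theorem alt90_f11_0 : allFrom (nat_lit 0) (nat_lit 9) (alt90.finOK (nat_lit 9) (Tr.get3 alt90_Q11 (nat_lit 7) (nat_lit 7)) (nat_lit 11)) = true := by
  decide +kernel

def alt90_Q9 : Tr := .leaf (nat_lit 0x7c1f7a842699141a)
theorem alt90_f9_0 : allFrom (nat_lit 0) (nat_lit 9) (alt90.finOK (nat_lit 9) (Tr.get3 alt90_Q9 (nat_lit 7) (nat_lit 7)) (nat_lit 9)) = true := by
  decide +kernel

def alt90_Q7 : Tr := .leaf (nat_lit 0x7ad8367406559318)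
theorem alt90_f7_0 : allFrom (nat_lit 0) (nat_lit 9) (alt90.finOK (nat_lit 9) (Tr.get3 alt90_Q7 (nat_lit 7) (nat_lit 7)) (nat_lit 7)) = true := by
  decide +kernel

def alt90_Q5 : Tr := .leaf (nat_lit 0x78d5705be6121216)
theorem alt90_f5_0 : allFrom (nat_lit 0) (nat_lit 9) (alt90.finOK (nat_lit 9) (Tr.get3 alt90_Q5 (nat_lit 7) (nat_lit 7)) (nat_lit 5)) = true := by
  decide +kernel

def alt90_Q3 : Tr := .leaf (nat_lit 0x76d16a6095ce9114)
theorem alt90_f3_0 : allFrom (nat_lit 0) (nat_lit 9) (alt90.finOK (nat_lit 9) (Tr.get3 alt90_Q3 (nat_lit 7) (nat_lit 7)) (nat_lit 3)) = true := by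
  decide +kernel

def alt90_Q1 : Tr := .leaf (nat_lit 0x74cd6253c0eb1012)
theorem alt90_f1_0 : allFrom (nat_lit 0) (nat_lit 9) (alt90.finOK (nat_lit 9) (Tr.get3 alt90_Q1 (nat_lit 7) (nat_lit 7)) (nat_lit 1)) = true := by
  decide +kernel

theorem alt90_blocks : ∀ t < alt90.k, alt90.blockOK t = true :=
  (of_allFrom_append of_lt_zero alt90_b0)

/-- index 9 max 9 total 9 facts 64 | needed cosets 9 facts 64 steps 140 trivial 0 -/
theorem alt90_index {G : Type*} [Group G] {γ : ℕ → G} (hL : Lab γ altI9) (hr : ∀ t ∈ alt90_rels, t.ev γ = 1) {K : Subgroup G}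
    (hK : ∀ t ∈ ([.l 1, .l 3, .l 5, .l 7, .l 9, .l 11] : List W), t.ev γ ∈ K) :
    K.relIndex (genW γ [.l 1, .l 3, .l 5, .l 7, .l 9, .l 11, .l 13]) ≠ 0 ∧ K.relIndex (genW γ [.l 1, .l 3, .l 5, .l 7, .l 9, .l 11, .l 13]) ≤ 9 :=
  TC.relIndex_le (D := alt90) (gens := [1, 3, 5, 7, 9, 11, 13]) hL (List.forall_mem_cons.2 ⟨hL.zero_mem K, hK⟩) hr alt90_head alt90_blocks (by decide) (by decide)
   (List.forall_mem_cons.2 ⟨⟨_, (of_allFrom_append of_lt_zero alt90_f1_0)⟩,
    List.forall_mem_cons.2 ⟨⟨_, (of_allFrom_append of_lt_zero alt90_f3_0)⟩,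
    List.forall_mem_cons.2 ⟨⟨_, (of_allFrom_append of_lt_zero alt90_f5_0)⟩,
    List.forall_mem_cons.2 ⟨⟨_, (of_allFrom_append of_lt_zero alt90_f7_0)⟩,
    List.forall_mem_cons.2 ⟨⟨_, (of_allFrom_append of_lt_zero alt90_f9_0)⟩,
    List.forall_mem_cons.2 ⟨⟨_, (of_allFrom_append of_lt_zero alt90_f11_0)⟩,
    List.forall_mem_cons.2 ⟨⟨_, (of_allFrom_append of_lt_zero alt90_f13_0)⟩,
    fun _ h => absurd h List.not_mem_nil⟩⟩⟩⟩⟩⟩⟩)

def alt91_rels : List W := [.pow (.l 1) 3, .pow (.l 3) 3, .pow (.l 5) 3, .pow (.l 7) 3, .pow (.l 9) 3, .pow (.l 11) 3, .pow (.mul (.l 1) (.l 3)) 2, .pow (.mul (.l 1) (.l 5)) 2, .pow (.mul (.l 1) (.l 7)) 2, .pow (.mul (.l 1) (.l 9)) 2, .pow (.mul (.l 1) (.l 11)) 2, .pow (.mul (.l 3) (.l 5)) 2, .pow (.mul (.l 3) (.l 7)) 2, .pow (.mul (.l 3) (.l 9)) 2, .pow (.mul (.l 3) (.l 11)) 2, .pow (.mul (.l 5) (.l 7)) 2, .pow (.mul (.l 5) (.l 9)) 2, .pow (.mul (.l 5) (.l 11)) 2, .pow (.mul (.l 7) (.l 9)) 2, .pow (.mul (.l 7) (.l 11)) 2,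 .pow (.mul (.l 9) (.l 11)) 2]
def alt91_F : Tr := .leaf (nat_lit 0x675f473f372f271f170f574a665e564e362e261e160e463a655d554d453d251d150d352a645c544c443c342c140c241a635b534b433b332b231b130a524942393229221912096259504840383028201810084f513e412d311c210b115a6061580000)
def alt91_T : Tr := .leaf (nat_lit 16434824)
def alt91_P : Tr := .node (.leaf (nat_lit 0x561c0f00009240f000044a1a0d002134a240d002124a200d0000f4a1e0d0000c4a1c0d00008220d000033e1a0b002113e240b002103e220b0020f3e1e0b0000b3e1c0b00007200b00002321a090020e3224090020d3222090020c3220090020b321c09000061e0900001261a070020a262407002092622070020826200700207261e07002061c07000000218050001402160500013021405000110212050000e0210050000a020500005))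
  (.leaf (nat_lit 0x1ff001ff001ff001ff001ff001ff001ff001ff001ff001ff001ff001ff001ff001ff001ff001ff001ff001ff001ff001ff001ff001ff001ff001ff001ff001ff001ff001ff561a0f0021456220f0001256200f00010561e0f0000d))
def alt91_N_0 : Tr := .node (.node (.node (.node (.leaf (nat_lit 1057))
  (.leaf (nat_lit 0)))
  (.leaf (nat_lit 3076)))
  (.node (.leaf (nat_lit 300325))
  (.leaf (nat_lit 298))))
  (.node (.node (.leaf (nat_lit 230625))
  (.leaf (nat_lit 263)))
  (.node (.leaf (nat_lit 34))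
  (.leaf (nat_lit 11276))))
def alt91_N_1 : Tr := .node (.node (.node (.node (.leaf (nat_lit 5285))
  (.leaf (nat_lit 197)))
  (.node (.leaf (nat_lit 302375))
  (.leaf (nat_lit 9226))))
  (.node (.node (.leaf (nat_lit 361825))
  (.leaf (nat_lit 232)))
  (.node (.leaf (nat_lit 1026))
  (.leaf (nat_lit 461)))))
  (.node (.node (.node (.leaf (nat_lit 99425))
  (.leaf (nat_lit 5126)))
  (.node (.leaf (nat_lit 65))
  (.leaf (nat_lit 364))))
  (.node (.node (.leaf (nat_lit 363875))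
  (.leaf (nat_lit 329)))
  (.node (.leaf (nat_lit 100))
  (.leaf (nat_lit 13326)))))
def alt91_N_2 : Tr := .node (.node (.node (.node (.leaf (nat_lit 3171))
  (.leaf (nat_lit 197)))
  (.node (.leaf (nat_lit 365925))
  (.leaf (nat_lit 298))))
  (.node (.node (.leaf (nat_lit 296225))
  (.leaf (nat_lit 8199)))
  (.node (.leaf (nat_lit 34))
  (.leaf (nat_lit 461)))))
  (.node (.node (.node (.leaf (nat_lit 11627))
  (.leaf (nat_lit 166)))
  (.node (.leaf (nat_lit 65))
  (.leaf (nat_lit 12299))))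
  (.node (.node (.leaf (nat_lit 298275))
  (.leaf (nat_lit 329)))
  (.node (.leaf (nat_lit 4099))
  (.leaf (nat_lit 430)))))
def alt91_N_3 : Tr := .node (.node (.node (.node (.leaf (nat_lit 7399))
  (.leaf (nat_lit 6149)))
  (.node (.leaf (nat_lit 367975))
  (.leaf (nat_lit 395))))
  (.node (.node (.leaf (nat_lit 167075))
  (.leaf (nat_lit 232)))
  (.node (.leaf (nat_lit 131))
  (.leaf (nat_lit 14349)))))
  (.node (.node (.node (.leaf (nat_lit 165025))
  (.leaf (nat_lit 263)))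
  (.node (.leaf (nat_lit 2049))
  (.leaf (nat_lit 364))))
  (.node (.node (.leaf (nat_lit 234725))
  (.leaf (nat_lit 10249)))
  (.node (.leaf (nat_lit 100))
  (.leaf (nat_lit 0)))))
def alt91_N : Tr := .node (.node (.node alt91_N_0
  (.node (.node (.node (.leaf (nat_lit 9513))
  (.leaf (nat_lit 166)))
  (.node (.leaf (nat_lit 370025))
  (.leaf (nat_lit 395))))
  (.node (.node (.leaf (nat_lit 232675))
  (.leaf (nat_lit 7176)))
  (.node (.leaf (nat_lit 131))
  (.leaf (nat_lit 430))))))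
  alt91_N_1)
  (.node alt91_N_2
  alt91_N_3)
noncomputable def alt91 : TC :=
  ⟨[.l 0, .l 1, .l 2, .l 3, .l 4, .l 5, .l 6, .l 7, .l 8, .l 9, .l 10, .l 11, .l 12, .l 13, .l 14],
    (nat_lit 3), (nat_lit 8), (nat_lit 0x35cb62547414c320440), (nat_lit 683), (nat_lit 8), (nat_lit 5), (nat_lit 32), (nat_lit 2), (nat_lit 65),
    get (nat_lit 10) (nat_lit 0x400c0400c02010030080400c02010030080400c02010030080400c02010030080400c02010030080400c02010030080400c0201003008040100401004010040100401004010040100400c0300c0300c03), Tr.get alt91_N, get (nat_lit 20) (nat_lit 0x3ff003ff003ff003ff003ff003ff003ff003ff003ff003ff003ff003ff003ff003ff003ff003ff003ff003ff003ff003ff003ff003ff003ff003ff003ff003ff003ff003ff003ff003ff003ff003ff003ff003ff003ff003ff003ff003ff003ff003ff003ff003ff003ff003ff00014000130001200011000100000f0000e0000d0000c0000b0000a00009000080000700006000050000400003000020000100000),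
    Tr.get3 alt91_F (nat_lit 16) (nat_lit 5), Tr.get3 alt91_T (nat_lit 3) (nat_lit 8), Tr.get alt91_P⟩

theorem alt91_head : alt91.headOK alt91_rels altI9 = true := by decide +kernel

theorem alt91_b0 : allFrom (nat_lit 0) (nat_lit 2) alt91.blockOK = true := by decide +kernel

def alt91_Q11 : Tr := .leaf (nat_lit 0xc15243c6014d02)
theorem alt91_f11_0 : allFrom (nat_lit 0) (nat_lit 8) (alt91.finOK (nat_lit 8) (Tr.get3 alt91_Q11 (nat_lit 7) (nat_lit 7)) (nat_lit 11)) = true := by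
  decide +kernel

def alt91_Q9 : Tr := .leaf (nat_lit 0x1f4a33a5d59218)
theorem alt91_f9_0 : allFrom (nat_lit 0) (nat_lit 8) (alt91.finOK (nat_lit 8) (Tr.get3 alt91_Q9 (nat_lit 7) (nat_lit 7)) (nat_lit 9)) = true := by
  decide +kernel

def alt91_Q7 : Tr := .leaf (nat_lit 0xbc362385929116)
theorem alt91_f7_0 : allFrom (nat_lit 0) (nat_lit 8) (alt91.finOK (nat_lit 8) (Tr.get3 alt91_Q7 (nat_lit 7) (nat_lit 7)) (nat_lit 7)) = true := by
  decide +kernel

def alt91_Q5 : Tr := .leaf (nat_lit 0xb9405b654f9014)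
theorem alt91_f5_0 : allFrom (nat_lit 0) (nat_lit 8) (alt91.finOK (nat_lit 8) (Tr.get3 alt91_Q5 (nat_lit 7) (nat_lit 7)) (nat_lit 5)) = true := by
  decide +kernel

def alt91_Q3 : Tr := .leaf (nat_lit 0xb53a10950c8f12)
theorem alt91_f3_0 : allFrom (nat_lit 0) (nat_lit 8) (alt91.finOK (nat_lit 8) (Tr.get3 alt91_Q3 (nat_lit 7) (nat_lit 7)) (nat_lit 3)) = true := by
  decide +kernel

def alt91_Q1 : Tr := .leaf (nat_lit 0xb1320340e98e10)
theorem alt91_f1_0 : allFrom (nat_lit 0) (nat_lit 8) (alt91.finOK (nat_lit 8) (Tr.get3 alt91_Q1 (nat_lit 7) (nat_lit 7)) (nat_lit 1)) = true := by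
  decide +kernel

theorem alt91_blocks : ∀ t < alt91.k, alt91.blockOK t = true :=
  (of_allFrom_append of_lt_zero alt91_b0)

/-- index 8 max 8 total 8 facts 49 | needed cosets 8 facts 49 steps 102 trivial 0 -/
theorem alt91_index {G : Type*} [Group G] {γ : ℕ → G} (hL : Lab γ altI9) (hr : ∀ t ∈ alt91_rels, t.ev γ = 1) {K : Subgroup G}
    (hK : ∀ t ∈ ([.l 1, .l 3, .l 5, .l 7, .l 9] : List W), t.ev γ ∈ K) :
    K.relIndex (genW γ [.l 1, .l 3, .l 5, .l 7, .l 9, .l 11]) ≠ 0 ∧ K.relIndex (genW γ [.l 1, .l 3, .l 5, .l 7, .l 9, .l 11]) ≤ 8 :=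
  TC.relIndex_le (D := alt91) (gens := [1, 3, 5, 7, 9, 11]) hL (List.forall_mem_cons.2 ⟨hL.zero_mem K, hK⟩) hr alt91_head alt91_blocks (by decide) (by decide)
   (List.forall_mem_cons.2 ⟨⟨_, (of_allFrom_append of_lt_zero alt91_f1_0)⟩,
    List.forall_mem_cons.2 ⟨⟨_, (of_allFrom_append of_lt_zero alt91_f3_0)⟩,
    List.forall_mem_cons.2 ⟨⟨_, (of_allFrom_append of_lt_zero alt91_f5_0)⟩,
    List.forall_mem_cons.2 ⟨⟨_, (of_allFrom_append of_lt_zero alt91_f7_0)⟩,
    List.forall_mem_cons.2 ⟨⟨_, (of_allFrom_append of_lt_zero alt91_f9_0)⟩,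
    List.forall_mem_cons.2 ⟨⟨_, (of_allFrom_append of_lt_zero alt91_f11_0)⟩,
    fun _ h => absurd h List.not_mem_nil⟩⟩⟩⟩⟩⟩)

def alt92_rels : List W := [.pow (.l 1) 3, .pow (.l 3) 3, .pow (.l 5) 3, .pow (.l 7) 3, .pow (.l 9) 3, .pow (.mul (.l 1) (.l 3)) 2, .pow (.mul (.l 1) (.l 5)) 2, .pow (.mul (.l 1) (.l 7)) 2, .pow (.mul (.l 1) (.l 9)) 2, .pow (.mul (.l 3) (.l 5)) 2, .pow (.mul (.l 3) (.l 7)) 2, .pow (.mul (.l 3) (.l 9)) 2, .pow (.mul (.l 5) (.l 7)) 2, .pow (.mul (.l 5) (.l 9)) 2, .pow (.mul (.l 7) (.l 9)) 2]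
def alt92_F : Tr := .leaf (nat_lit 0x564e362e261e160e463a554d453d251d150d352a544c443c342c140c241a534b433b332b231b130a4239322922191209524940383028201810083e412d311c210b114a5051480000)
def alt92_T : Tr := .leaf (nat_lit 1754760)
def alt92_P : Tr := .leaf (nat_lit 0x7fc007fc007fc007fc007fc007fc007fdf161a0041cf8e0d0000c7c686800053e30340001cf0d000036858580106b43c2c00831a1a1600012d0c0b00006382c000095161200416a8f090020a5470480104aa302400014d09000014058380104203c1c0081d01c0e0040c80d0700205301c000001140a0001c089050000d0440280005821c140002010500004)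
def alt92_N_0 : Tr := .node (.node (.node (.node (.leaf (nat_lit 1057))
  (.leaf (nat_lit 5126)))
  (.node (.leaf (nat_lit 65))
  (.leaf (nat_lit 364))))
  (.node (.node (.leaf (nat_lit 296225))
  (.leaf (nat_lit 329)))
  (.node (.leaf (nat_lit 100))
  (.leaf (nat_lit 13326)))))
  (.node (.node (.node (.leaf (nat_lit 9513))
  (.leaf (nat_lit 232)))
  (.node (.leaf (nat_lit 1026))
  (.leaf (nat_lit 461))))
  (.node (.node (.leaf (nat_lit 234725))
  (.leaf (nat_lit 9226)))
  (.leaf (nat_lit 197))))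
def alt92_N_1 : Tr := .node (.node (.node (.node (.leaf (nat_lit 5285))
  (.leaf (nat_lit 263)))
  (.node (.leaf (nat_lit 34))
  (.leaf (nat_lit 11276))))
  (.node (.node (.leaf (nat_lit 232675))
  (.leaf (nat_lit 298)))
  (.node (.leaf (nat_lit 3076))
  (.leaf (nat_lit 0)))))
  (.node (.node (.node (.leaf (nat_lit 165025))
  (.leaf (nat_lit 7176)))
  (.node (.leaf (nat_lit 131))
  (.leaf (nat_lit 430))))
  (.node (.node (.leaf (nat_lit 302375))
  (.leaf (nat_lit 395)))
  (.leaf (nat_lit 166))))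
def alt92_N_2 : Tr := .node (.node (.node (.node (.leaf (nat_lit 3171))
  (.leaf (nat_lit 263)))
  (.node (.leaf (nat_lit 2049))
  (.leaf (nat_lit 364))))
  (.node (.node (.leaf (nat_lit 167075))
  (.leaf (nat_lit 10249)))
  (.node (.leaf (nat_lit 100))
  (.leaf (nat_lit 0)))))
  (.node (.node (.node (.leaf (nat_lit 99425))
  (.leaf (nat_lit 232)))
  (.node (.leaf (nat_lit 131))
  (.leaf (nat_lit 14349))))
  (.node (.node (.leaf (nat_lit 300325))
  (.leaf (nat_lit 395)))
  (.leaf (nat_lit 6149))))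
def alt92_N_3 : Tr := .node (.node (.node (.node (.leaf (nat_lit 7399))
  (.leaf (nat_lit 8199)))
  (.node (.leaf (nat_lit 34))
  (.leaf (nat_lit 461))))
  (.node (.node (.leaf (nat_lit 298275))
  (.leaf (nat_lit 298)))
  (.leaf (nat_lit 197))))
  (.node (.node (.node (.leaf (nat_lit 230625))
  (.leaf (nat_lit 329)))
  (.node (.leaf (nat_lit 4099))
  (.leaf (nat_lit 430))))
  (.node (.node (.leaf (nat_lit 65))
  (.leaf (nat_lit 12299)))
  (.leaf (nat_lit 166))))
def alt92_N : Tr := .node (.node alt92_N_0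
  alt92_N_1)
  (.node alt92_N_2
  alt92_N_3)
noncomputable def alt92 : TC :=
  ⟨[.l 0, .l 1, .l 2, .l 3, .l 4, .l 5, .l 6, .l 7, .l 8, .l 9, .l 10, .l 11, .l 12, .l 13, .l 14],
    (nat_lit 3), (nat_lit 7), (nat_lit 0x35cb62547414c320440), (nat_lit 171), (nat_lit 7), (nat_lit 4), (nat_lit 32), (nat_lit 1), (nat_lit 59),
    get (nat_lit 10) (nat_lit 0x400c0400c02010030080400c02010030080400c02010030080400c02010030080400c02010030080400c02010030080400c020100300804010040100401004010040100300c0300c03), Tr.get alt92_N, get (nat_lit 20) (nat_lit 0x3ff003ff003ff003ff003ff003ff003ff003ff003ff003ff003ff003ff003ff003ff003ff003ff003ff003ff003ff003ff003ff003ff003ff003ff003ff003ff003ff003ff003ff003ff003ff003ff003ff003ff003ff003ff003ff003ff003ff003ff003ff003ff003ff003ff0000e0000d0000c0000b0000a00009000080000700006000050000400003000020000100000),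
    Tr.get3 alt92_F (nat_lit 16) (nat_lit 5), Tr.get3 alt92_T (nat_lit 3) (nat_lit 8), Tr.get alt92_P⟩

theorem alt92_head : alt92.headOK alt92_rels altI9 = true := by decide +kernel

theorem alt92_b0 : allFrom (nat_lit 0) (nat_lit 1) alt92.blockOK = true := by decide +kernel

def alt92_Q9 : Tr := .leaf (nat_lit 309938345822978)
theorem alt92_f9_0 : allFrom (nat_lit 0) (nat_lit 7) (alt92.finOK (nat_lit 7) (Tr.get3 alt92_Q9 (nat_lit 7) (nat_lit 7)) (nat_lit 9)) = true := by
  decide +kernel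

def alt92_Q7 : Tr := .leaf (nat_lit 956445747092)
theorem alt92_f7_0 : allFrom (nat_lit 0) (nat_lit 7) (alt92.finOK (nat_lit 7) (Tr.get3 alt92_Q7 (nat_lit 6) (nat_lit 7)) (nat_lit 7)) = true := by
  decide +kernel

def alt92_Q5 : Tr := .leaf (nat_lit 299457544261138)
theorem alt92_f5_0 : allFrom (nat_lit 0) (nat_lit 7) (alt92.finOK (nat_lit 7) (Tr.get3 alt92_Q5 (nat_lit 7) (nat_lit 7)) (nat_lit 5)) = true := by
  decide +kernel

def alt92_Q3 : Tr := .leaf (nat_lit 292197702995216)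
theorem alt92_f3_0 : allFrom (nat_lit 0) (nat_lit 7) (alt92.finOK (nat_lit 7) (Tr.get3 alt92_Q3 (nat_lit 7) (nat_lit 7)) (nat_lit 3)) = true := by
  decide +kernel

def alt92_Q1 : Tr := .leaf (nat_lit 283342228950030)
theorem alt92_f1_0 : allFrom (nat_lit 0) (nat_lit 7) (alt92.finOK (nat_lit 7) (Tr.get3 alt92_Q1 (nat_lit 7) (nat_lit 7)) (nat_lit 1)) = true := by
  decide +kernel

theorem alt92_blocks : ∀ t < alt92.k, alt92.blockOK t = true :=
  (of_allFrom_append of_lt_zero alt92_b0)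

/-- index 7 max 7 total 7 facts 36 | needed cosets 7 facts 36 steps 70 trivial 0 -/
theorem alt92_index {G : Type*} [Group G] {γ : ℕ → G} (hL : Lab γ altI9) (hr : ∀ t ∈ alt92_rels, t.ev γ = 1) {K : Subgroup G}
    (hK : ∀ t ∈ ([.l 1, .l 3, .l 5, .l 7] : List W), t.ev γ ∈ K) :
    K.relIndex (genW γ [.l 1, .l 3, .l 5, .l 7, .l 9]) ≠ 0 ∧ K.relIndex (genW γ [.l 1, .l 3, .l 5, .l 7, .l 9]) ≤ 7 :=
  TC.relIndex_le (D := alt92) (gens := [1, 3, 5, 7, 9]) hL (List.forall_mem_cons.2 ⟨hL.zero_mem K, hK⟩) hr alt92_head alt92_blocks (by decide) (by decide)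
   (List.forall_mem_cons.2 ⟨⟨_, (of_allFrom_append of_lt_zero alt92_f1_0)⟩,
    List.forall_mem_cons.2 ⟨⟨_, (of_allFrom_append of_lt_zero alt92_f3_0)⟩,
    List.forall_mem_cons.2 ⟨⟨_, (of_allFrom_append of_lt_zero alt92_f5_0)⟩,
    List.forall_mem_cons.2 ⟨⟨_, (of_allFrom_append of_lt_zero alt92_f7_0)⟩,
    List.forall_mem_cons.2 ⟨⟨_, (of_allFrom_append of_lt_zero alt92_f9_0)⟩,
    fun _ h => absurd h List.not_mem_nil⟩⟩⟩⟩⟩)

def alt93_rels : List W := [.pow (.l 1) 3, .pow (.l 3) 3, .pow (.l 5) 3, .pow (.l 7) 3, .pow (.mul (.l 1) (.l 3)) 2, .pow (.mul (.l 1) (.l 5)) 2, .pow (.mul (.l 1) (.l 7)) 2, .pow (.mul (.l 3) (.l 5)) 2, .pow (.mul (.l 3) (.l 7)) 2, .pow (.mul (.l 5) (.l 7)) 2]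
def alt93_F : Tr := .leaf (nat_lit 0x453d251d150d352a443c342c140c241a433b332b231b130a32292219120942393028201810082d311c210b113a4041380000)
def alt93_T : Tr := .leaf (nat_lit 181896)
def alt93_P : Tr := .leaf (nat_lit 0x1ff001ff001ff001ff001ff001ff001ff001ff001ff001ff001ff001ff001ff001ff001ff001ff5448580104aa2c2c0001d514160000a6058000122242400821118120040e88a09000042c2400004d120e0040c68c07002053458380102140e00000088050000904382800040218140001810500003)
def alt93_N_0 : Tr := .node (.node (.node (.node (.leaf (nat_lit 1057))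
  (.leaf (nat_lit 232)))
  (.node (.leaf (nat_lit 131))
  (.leaf (nat_lit 14349))))
  (.node (.node (.leaf (nat_lit 232675))
  (.leaf (nat_lit 395)))
  (.leaf (nat_lit 6149))))
  (.node (.node (.node (.leaf (nat_lit 99425))
  (.leaf (nat_lit 10249)))
  (.node (.leaf (nat_lit 100))
  (.leaf (nat_lit 0))))
  (.node (.node (.leaf (nat_lit 2049))
  (.leaf (nat_lit 364)))
  (.leaf (nat_lit 263))))
def alt93_N_1 : Tr := .node (.node (.node (.node (.leaf (nat_lit 5285))
  (.leaf (nat_lit 329)))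
  (.node (.leaf (nat_lit 4099))
  (.leaf (nat_lit 430))))
  (.node (.node (.leaf (nat_lit 65))
  (.leaf (nat_lit 12299)))
  (.leaf (nat_lit 166))))
  (.node (.node (.node (.leaf (nat_lit 230625))
  (.leaf (nat_lit 298)))
  (.leaf (nat_lit 197)))
  (.node (.node (.leaf (nat_lit 34))
  (.leaf (nat_lit 461)))
  (.leaf (nat_lit 8199))))
def alt93_N_2 : Tr := .node (.node (.node (.node (.leaf (nat_lit 3171))
  (.leaf (nat_lit 7176)))
  (.node (.leaf (nat_lit 131))
  (.leaf (nat_lit 430))))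
  (.node (.node (.leaf (nat_lit 234725))
  (.leaf (nat_lit 395)))
  (.leaf (nat_lit 166))))
  (.node (.node (.node (.leaf (nat_lit 165025))
  (.leaf (nat_lit 298)))
  (.node (.leaf (nat_lit 3076))
  (.leaf (nat_lit 0))))
  (.node (.node (.leaf (nat_lit 34))
  (.leaf (nat_lit 11276)))
  (.leaf (nat_lit 263))))
def alt93_N_3 : Tr := .node (.node (.node (.node (.leaf (nat_lit 7399))
  (.leaf (nat_lit 329)))
  (.node (.leaf (nat_lit 100))
  (.leaf (nat_lit 13326))))
  (.node (.node (.leaf (nat_lit 65))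
  (.leaf (nat_lit 364)))
  (.leaf (nat_lit 5126))))
  (.node (.node (.node (.leaf (nat_lit 167075))
  (.leaf (nat_lit 9226)))
  (.leaf (nat_lit 197)))
  (.node (.node (.leaf (nat_lit 1026))
  (.leaf (nat_lit 461)))
  (.leaf (nat_lit 232))))
def alt93_N : Tr := .node (.node alt93_N_0
  alt93_N_1)
  (.node alt93_N_2
  alt93_N_3)
noncomputable def alt93 : TC :=
  ⟨[.l 0, .l 1, .l 2, .l 3, .l 4, .l 5, .l 6, .l 7, .l 8, .l 9, .l 10, .l 11, .l 12, .l 13, .l 14],
    (nat_lit 3), (nat_lit 7), (nat_lit 0x35cb62547414c320440), (nat_lit 43), (nat_lit 6), (nat_lit 3), (nat_lit 32), (nat_lit 1), (nat_lit 54),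
    get (nat_lit 10) (nat_lit 0x1003010030080400c02010030080400c02010030080400c02010030080400c02010030080400c02010030080400c02010030080400c0201004010040100400c0300c03), Tr.get alt93_N, get (nat_lit 20) (nat_lit 0x3ff003ff003ff003ff003ff003ff003ff003ff003ff003ff003ff003ff003ff003ff003ff003ff003ff003ff003ff003ff003ff003ff003ff003ff003ff003ff003ff003ff003ff003ff003ff003ff003ff003ff003ff003ff003ff003ff003ff003ff003ff003ff003ff003ff00009000080000700006000050000400003000020000100000),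
    Tr.get3 alt93_F (nat_lit 16) (nat_lit 5), Tr.get3 alt93_T (nat_lit 3) (nat_lit 8), Tr.get alt93_P⟩

theorem alt93_head : alt93.headOK alt93_rels altI9 = true := by decide +kernel

theorem alt93_b0 : allFrom (nat_lit 0) (nat_lit 1) alt93.blockOK = true := by decide +kernel

def alt93_Q7 : Tr := .leaf (nat_lit 52219106434)
theorem alt93_f7_0 : allFrom (nat_lit 0) (nat_lit 6) (alt93.finOK (nat_lit 6) (Tr.get3 alt93_Q7 (nat_lit 6) (nat_lit 7)) (nat_lit 7)) = true := by
  decide +kernel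

def alt93_Q5 : Tr := .leaf (nat_lit 12456732176)
theorem alt93_f5_0 : allFrom (nat_lit 0) (nat_lit 6) (alt93.finOK (nat_lit 6) (Tr.get3 alt93_Q5 (nat_lit 6) (nat_lit 7)) (nat_lit 5)) = true := by
  decide +kernel

def alt93_Q3 : Tr := .leaf (nat_lit 49550599566)
theorem alt93_f3_0 : allFrom (nat_lit 0) (nat_lit 6) (alt93.finOK (nat_lit 6) (Tr.get3 alt93_Q3 (nat_lit 6) (nat_lit 7)) (nat_lit 3)) = true := by
  decide +kernel

def alt93_Q1 : Tr := .leaf (nat_lit 47850562828)
theorem alt93_f1_0 : allFrom (nat_lit 0) (nat_lit 6) (alt93.finOK (nat_lit 6) (Tr.get3 alt93_Q1 (nat_lit 6) (nat_lit 7)) (nat_lit 1)) = true := by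
  decide +kernel

theorem alt93_blocks : ∀ t < alt93.k, alt93.blockOK t = true :=
  (of_allFrom_append of_lt_zero alt93_b0)

/-- index 6 max 6 total 6 facts 25 | needed cosets 6 facts 25 steps 44 trivial 0 -/
theorem alt93_index {G : Type*} [Group G] {γ : ℕ → G} (hL : Lab γ altI9) (hr : ∀ t ∈ alt93_rels, t.ev γ = 1) {K : Subgroup G}
    (hK : ∀ t ∈ ([.l 1, .l 3, .l 5] : List W), t.ev γ ∈ K) :
    K.relIndex (genW γ [.l 1, .l 3, .l 5, .l 7]) ≠ 0 ∧ K.relIndex (genW γ [.l 1, .l 3, .l 5, .l 7]) ≤ 6 :=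
  TC.relIndex_le (D := alt93) (gens := [1, 3, 5, 7]) hL (List.forall_mem_cons.2 ⟨hL.zero_mem K, hK⟩) hr alt93_head alt93_blocks (by decide) (by decide)
   (List.forall_mem_cons.2 ⟨⟨_, (of_allFrom_append of_lt_zero alt93_f1_0)⟩,
    List.forall_mem_cons.2 ⟨⟨_, (of_allFrom_append of_lt_zero alt93_f3_0)⟩,
    List.forall_mem_cons.2 ⟨⟨_, (of_allFrom_append of_lt_zero alt93_f5_0)⟩,
    List.forall_mem_cons.2 ⟨⟨_, (of_allFrom_append of_lt_zero alt93_f7_0)⟩,
    fun _ h => absurd h List.not_mem_nil⟩⟩⟩⟩)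

def alt94_rels : List W := [.pow (.l 1) 3, .pow (.l 3) 3, .pow (.l 5) 3, .pow (.mul (.l 1) (.l 3)) 2, .pow (.mul (.l 1) (.l 5)) 2, .pow (.mul (.l 3) (.l 5)) 2]
def alt94_F : Tr := .leaf (nat_lit 0x342c140c241a332b231b130a221912093229201810081c210b112a3031280000)
def alt94_T : Tr := .leaf (nat_lit 18056)
def alt94_P : Tr := .leaf (nat_lit 0x1ff001ff001ff001ff001ff001ff001ff001ff001ff001ff001ff001ff001ff001ff001ff001ff001ff001ff001ff001ff001ff001ff001ff34384801029a20240000c90900001283838010214241c0080c8070000004302800028214140001010500002)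
def alt94_N_0 : Tr := .node (.node (.node (.node (.leaf (nat_lit 1057))
  (.leaf (nat_lit 10249)))
  (.node (.leaf (nat_lit 100))
  (.leaf (nat_lit 0))))
  (.node (.node (.leaf (nat_lit 2049))
  (.leaf (nat_lit 364)))
  (.leaf (nat_lit 263))))
  (.node (.node (.node (.leaf (nat_lit 165025))
  (.leaf (nat_lit 395)))
  (.leaf (nat_lit 6149)))
  (.node (.node (.leaf (nat_lit 131))
  (.leaf (nat_lit 14349)))
  (.leaf (nat_lit 232))))
def alt94_N_1 : Tr := .node (.node (.node (.node (.leaf (nat_lit 5285))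
  (.leaf (nat_lit 298)))
  (.leaf (nat_lit 197)))
  (.node (.node (.leaf (nat_lit 34))
  (.leaf (nat_lit 461)))
  (.leaf (nat_lit 8199))))
  (.node (.node (.node (.leaf (nat_lit 65))
  (.leaf (nat_lit 12299)))
  (.leaf (nat_lit 166)))
  (.node (.node (.leaf (nat_lit 4099))
  (.leaf (nat_lit 430)))
  (.leaf (nat_lit 329))))
def alt94_N_2 : Tr := .node (.node (.node (.node (.leaf (nat_lit 3171))
  (.leaf (nat_lit 298)))
  (.node (.leaf (nat_lit 3076))
  (.leaf (nat_lit 0))))
  (.node (.node (.leaf (nat_lit 34))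
  (.leaf (nat_lit 11276)))
  (.leaf (nat_lit 263))))
  (.node (.node (.node (.leaf (nat_lit 167075))
  (.leaf (nat_lit 395)))
  (.leaf (nat_lit 166)))
  (.node (.node (.leaf (nat_lit 131))
  (.leaf (nat_lit 430)))
  (.leaf (nat_lit 7176))))
def alt94_N_3 : Tr := .node (.node (.node (.node (.leaf (nat_lit 99425))
  (.leaf (nat_lit 9226)))
  (.leaf (nat_lit 197)))
  (.node (.node (.leaf (nat_lit 1026))
  (.leaf (nat_lit 461)))
  (.leaf (nat_lit 232))))
  (.node (.node (.node (.leaf (nat_lit 65))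
  (.leaf (nat_lit 364)))
  (.leaf (nat_lit 5126)))
  (.node (.node (.leaf (nat_lit 100))
  (.leaf (nat_lit 13326)))
  (.leaf (nat_lit 329))))
def alt94_N : Tr := .node (.node alt94_N_0
  alt94_N_1)
  (.node alt94_N_2
  alt94_N_3)
noncomputable def alt94 : TC :=
  ⟨[.l 0, .l 1, .l 2, .l 3, .l 4, .l 5, .l 6, .l 7, .l 8, .l 9, .l 10, .l 11, .l 12, .l 13, .l 14],
    (nat_lit 3), (nat_lit 7), (nat_lit 0x35cb62547414c320440), (nat_lit 11), (nat_lit 5), (nat_lit 2), (nat_lit 32), (nat_lit 1), (nat_lit 50),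
    get (nat_lit 10) (nat_lit 0x1003010030080400c02010030080400c02010030080400c02010030080400c02010030080400c02010030080400c02010030080400c02010040100300c03), Tr.get alt94_N, get (nat_lit 20) (nat_lit 0x3ff003ff003ff003ff003ff003ff003ff003ff003ff003ff003ff003ff003ff003ff003ff003ff003ff003ff003ff003ff003ff003ff003ff003ff003ff003ff003ff003ff003ff003ff003ff003ff003ff003ff003ff003ff003ff003ff003ff003ff003ff003ff003ff003ff000050000400003000020000100000),
    Tr.get3 alt94_F (nat_lit 16) (nat_lit 5), Tr.get3 alt94_T (nat_lit 3) (nat_lit 8), Tr.get alt94_P⟩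

theorem alt94_head : alt94.headOK alt94_rels altI9 = true := by decide +kernel

theorem alt94_b0 : allFrom (nat_lit 0) (nat_lit 1) alt94.blockOK = true := by decide +kernel

def alt94_Q5 : Tr := .leaf (nat_lit 32249282)
theorem alt94_f5_0 : allFrom (nat_lit 0) (nat_lit 5) (alt94.finOK (nat_lit 5) (Tr.get3 alt94_Q5 (nat_lit 5) (nat_lit 7)) (nat_lit 5)) = true := by
  decide +kernel

def alt94_Q3 : Tr := .leaf (nat_lit 10185292)
theorem alt94_f3_0 : allFrom (nat_lit 0) (nat_lit 5) (alt94.finOK (nat_lit 5) (Tr.get3 alt94_Q3 (nat_lit 5) (nat_lit 7)) (nat_lit 3)) = true := by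
  decide +kernel

def alt94_Q1 : Tr := .leaf (nat_lit 29610506)
theorem alt94_f1_0 : allFrom (nat_lit 0) (nat_lit 5) (alt94.finOK (nat_lit 5) (Tr.get3 alt94_Q1 (nat_lit 5) (nat_lit 7)) (nat_lit 1)) = true := by
  decide +kernel

theorem alt94_blocks : ∀ t < alt94.k, alt94.blockOK t = true :=
  (of_allFrom_append of_lt_zero alt94_b0)

/-- index 5 max 5 total 5 facts 16 | needed cosets 5 facts 16 steps 24 trivial 0 -/
theorem alt94_index {G : Type*} [Group G] {γ : ℕ → G} (hL : Lab γ altI9) (hr : ∀ t ∈ alt94_rels, t.ev γ = 1) {K : Subgroup G}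
    (hK : ∀ t ∈ ([.l 1, .l 3] : List W), t.ev γ ∈ K) :
    K.relIndex (genW γ [.l 1, .l 3, .l 5]) ≠ 0 ∧ K.relIndex (genW γ [.l 1, .l 3, .l 5]) ≤ 5 :=
  TC.relIndex_le (D := alt94) (gens := [1, 3, 5]) hL (List.forall_mem_cons.2 ⟨hL.zero_mem K, hK⟩) hr alt94_head alt94_blocks (by decide) (by decide)
   (List.forall_mem_cons.2 ⟨⟨_, (of_allFrom_append of_lt_zero alt94_f1_0)⟩,
    List.forall_mem_cons.2 ⟨⟨_, (of_allFrom_append of_lt_zero alt94_f3_0)⟩,
    List.forall_mem_cons.2 ⟨⟨_, (of_allFrom_append of_lt_zero alt94_f5_0)⟩,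
    fun _ h => absurd h List.not_mem_nil⟩⟩⟩)

def alt95_rels : List W := [.pow (.l 1) 3, .pow (.l 3) 3, .pow (.mul (.l 1) (.l 3)) 2]
def alt95_F : Tr := .leaf (nat_lit 0x98f161850524344040e247102230000)
def alt95_T : Tr := .leaf (nat_lit 228)
def alt95_P : Tr := .leaf (nat_lit 0x7fc007fc007fc007fc007fc007fc007fc007fc007fc007fc007fc007fc007fc007fc007fc007fc007fc007fc007fc007fc007fc007fc007fc007fc007fc007fc007fc007fc70a0e00404303800000210140000810500001)
def alt95_N_0 : Tr := .node (.node (.node (.node (.leaf (nat_lit 1057))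
  (.leaf (nat_lit 9226)))
  (.leaf (nat_lit 197)))
  (.node (.node (.leaf (nat_lit 1026))
  (.leaf (nat_lit 461)))
  (.leaf (nat_lit 232))))
  (.node (.node (.node (.leaf (nat_lit 65))
  (.leaf (nat_lit 364)))
  (.leaf (nat_lit 5126)))
  (.node (.node (.leaf (nat_lit 100))
  (.leaf (nat_lit 13326)))
  (.leaf (nat_lit 329))))
def alt95_N_1 : Tr := .node (.node (.node (.node (.leaf (nat_lit 99425))
  (.leaf (nat_lit 395)))
  (.leaf (nat_lit 166)))
  (.node (.node (.leaf (nat_lit 131))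
  (.leaf (nat_lit 430)))
  (.leaf (nat_lit 7176))))
  (.node (.node (.node (.leaf (nat_lit 34))
  (.leaf (nat_lit 11276)))
  (.leaf (nat_lit 263)))
  (.node (.node (.leaf (nat_lit 3076))
  (.leaf (nat_lit 0)))
  (.leaf (nat_lit 298))))
def alt95_N_2 : Tr := .node (.node (.node (.node (.leaf (nat_lit 3171))
  (.leaf (nat_lit 395)))
  (.leaf (nat_lit 6149)))
  (.node (.node (.leaf (nat_lit 131))
  (.leaf (nat_lit 14349)))
  (.leaf (nat_lit 232))))
  (.node (.node (.node (.leaf (nat_lit 2049))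
  (.leaf (nat_lit 364)))
  (.leaf (nat_lit 263)))
  (.node (.node (.leaf (nat_lit 100))
  (.leaf (nat_lit 0)))
  (.leaf (nat_lit 10249))))
def alt95_N_3 : Tr := .node (.node (.node (.node (.leaf (nat_lit 65))
  (.leaf (nat_lit 12299)))
  (.leaf (nat_lit 166)))
  (.node (.node (.leaf (nat_lit 4099))
  (.leaf (nat_lit 430)))
  (.leaf (nat_lit 329))))
  (.node (.node (.node (.leaf (nat_lit 34))
  (.leaf (nat_lit 461)))
  (.leaf (nat_lit 8199)))
  (.node (.leaf (nat_lit 197))
  (.leaf (nat_lit 298))))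
def alt95_N : Tr := .node (.node alt95_N_0
  alt95_N_1)
  (.node alt95_N_2
  alt95_N_3)
noncomputable def alt95 : TC :=
  ⟨[.l 0, .l 1, .l 2, .l 3, .l 4, .l 5, .l 6, .l 7, .l 8, .l 9, .l 10, .l 11, .l 12, .l 13, .l 14],
    (nat_lit 2), (nat_lit 7), (nat_lit 0x35cb62547414c320440), (nat_lit 3), (nat_lit 4), (nat_lit 1), (nat_lit 32), (nat_lit 1), (nat_lit 47),
    get (nat_lit 10) (nat_lit 0x400c0400c02010030080400c02010030080400c02010030080400c02010030080400c02010030080400c02010030080400c02010030080400c03), Tr.get alt95_N, get (nat_lit 20) (nat_lit 0x3ff003ff003ff003ff003ff003ff003ff003ff003ff003ff003ff003ff003ff003ff003ff003ff003ff003ff003ff003ff003ff003ff003ff003ff003ff003ff003ff003ff003ff003ff003ff003ff003ff003ff003ff003ff003ff003ff003ff003ff003ff003ff003ff003ff000020000100000),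
    Tr.get3 alt95_F (nat_lit 14) (nat_lit 6), Tr.get3 alt95_T (nat_lit 2) (nat_lit 8), Tr.get alt95_P⟩

theorem alt95_head : alt95.headOK alt95_rels altI9 = true := by decide +kernel

theorem alt95_b0 : allFrom (nat_lit 0) (nat_lit 1) alt95.blockOK = true := by decide +kernel

def alt95_Q3 : Tr := .leaf (nat_lit 529730)
theorem alt95_f3_0 : allFrom (nat_lit 0) (nat_lit 4) (alt95.finOK (nat_lit 4) (Tr.get3 alt95_Q3 (nat_lit 5) (nat_lit 7)) (nat_lit 3)) = true := by
  decide +kernel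

def alt95_Q1 : Tr := .leaf (nat_lit 32456)
theorem alt95_f1_0 : allFrom (nat_lit 0) (nat_lit 4) (alt95.finOK (nat_lit 4) (Tr.get3 alt95_Q1 (nat_lit 4) (nat_lit 7)) (nat_lit 1)) = true := by
  decide +kernel

theorem alt95_blocks : ∀ t < alt95.k, alt95.blockOK t = true :=
  (of_allFrom_append of_lt_zero alt95_b0)

/-- index 4 max 4 total 4 facts 9 | needed cosets 4 facts 9 steps 10 trivial 0 -/
theorem alt95_index {G : Type*} [Group G] {γ : ℕ → G} (hL : Lab γ altI9) (hr : ∀ t ∈ alt95_rels, t.ev γ = 1) {K : Subgroup G}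
    (hK : ∀ t ∈ ([.l 1] : List W), t.ev γ ∈ K) :
    K.relIndex (genW γ [.l 1, .l 3]) ≠ 0 ∧ K.relIndex (genW γ [.l 1, .l 3]) ≤ 4 :=
  TC.relIndex_le (D := alt95) (gens := [1, 3]) hL (List.forall_mem_cons.2 ⟨hL.zero_mem K, hK⟩) hr alt95_head alt95_blocks (by decide) (by decide)
   (List.forall_mem_cons.2 ⟨⟨_, (of_allFrom_append of_lt_zero alt95_f1_0)⟩,
    List.forall_mem_cons.2 ⟨⟨_, (of_allFrom_append of_lt_zero alt95_f3_0)⟩,
    fun _ h => absurd h List.not_mem_nil⟩⟩)

def alt96_rels : List W := [.pow (.l 1) 3]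
def alt96_F : Tr := .leaf (nat_lit 0x14143081210000)
def alt96_T : Tr := .leaf (nat_lit 36)
def alt96_P : Tr := .leaf (nat_lit 0x7fc007fc007fc007fc007fc007fc007fc007fc007fc007fc007fc007fc007fc007fc007fc007fc007fc007fc007fc007fc007fc007fc007fc007fc007fc007fc007fc007fc007fc007fc007fc10500000)
def alt96_N_0 : Tr := .node (.node (.node (.node (.leaf (nat_lit 1057))
  (.leaf (nat_lit 395)))
  (.leaf (nat_lit 166)))
  (.node (.node (.leaf (nat_lit 131))
  (.leaf (nat_lit 430)))
  (.leaf (nat_lit 7176))))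
  (.node (.node (.node (.leaf (nat_lit 34))
  (.leaf (nat_lit 11276)))
  (.leaf (nat_lit 263)))
  (.node (.node (.leaf (nat_lit 3076))
  (.leaf (nat_lit 0)))
  (.leaf (nat_lit 298))))
def alt96_N_1 : Tr := .node (.node (.node (.node (.leaf (nat_lit 65))
  (.leaf (nat_lit 364)))
  (.leaf (nat_lit 5126)))
  (.node (.node (.leaf (nat_lit 100))
  (.leaf (nat_lit 13326)))
  (.leaf (nat_lit 329))))
  (.node (.node (.node (.leaf (nat_lit 1026))
  (.leaf (nat_lit 461)))
  (.leaf (nat_lit 232)))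
  (.node (.leaf (nat_lit 197))
  (.leaf (nat_lit 9226))))
def alt96_N_2 : Tr := .node (.node (.node (.node (.leaf (nat_lit 65))
  (.leaf (nat_lit 12299)))
  (.leaf (nat_lit 166)))
  (.node (.node (.leaf (nat_lit 4099))
  (.leaf (nat_lit 430)))
  (.leaf (nat_lit 329))))
  (.node (.node (.node (.leaf (nat_lit 34))
  (.leaf (nat_lit 461)))
  (.leaf (nat_lit 8199)))
  (.node (.leaf (nat_lit 197))
  (.leaf (nat_lit 298))))
def alt96_N_3 : Tr := .node (.node (.node (.node (.leaf (nat_lit 2049))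
  (.leaf (nat_lit 364)))
  (.leaf (nat_lit 263)))
  (.node (.node (.leaf (nat_lit 100))
  (.leaf (nat_lit 0)))
  (.leaf (nat_lit 10249))))
  (.node (.node (.node (.leaf (nat_lit 131))
  (.leaf (nat_lit 14349)))
  (.leaf (nat_lit 232)))
  (.node (.leaf (nat_lit 6149))
  (.leaf (nat_lit 395))))
def alt96_N : Tr := .node (.node alt96_N_0
  alt96_N_1)
  (.node alt96_N_2
  alt96_N_3)
noncomputable def alt96 : TC :=
  ⟨[.l 0, .l 1, .l 2, .l 3, .l 4, .l 5, .l 6, .l 7, .l 8, .l 9, .l 10, .l 11, .l 12, .l 13, .l 14],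
    (nat_lit 2), (nat_lit 7), (nat_lit 0x35cb62547414c320440), (nat_lit 1), (nat_lit 3), (nat_lit 0), (nat_lit 32), (nat_lit 1), (nat_lit 45),
    get (nat_lit 10) (nat_lit 0x400c0400c02010030080400c02010030080400c02010030080400c02010030080400c02010030080400c02010030080400c020100300803), Tr.get alt96_N, get (nat_lit 20) (nat_lit 0x3ff003ff003ff003ff003ff003ff003ff003ff003ff003ff003ff003ff003ff003ff003ff003ff003ff003ff003ff003ff003ff003ff003ff003ff003ff003ff003ff003ff003ff003ff003ff003ff003ff003ff003ff003ff003ff003ff003ff003ff003ff003ff003ff003ff00000),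
    Tr.get3 alt96_F (nat_lit 14) (nat_lit 6), Tr.get3 alt96_T (nat_lit 2) (nat_lit 8), Tr.get alt96_P⟩

theorem alt96_head : alt96.headOK alt96_rels altI9 = true := by decide +kernel

theorem alt96_b0 : allFrom (nat_lit 0) (nat_lit 1) alt96.blockOK = true := by decide +kernel

def alt96_Q1 : Tr := .leaf (nat_lit 370)
theorem alt96_f1_0 : allFrom (nat_lit 0) (nat_lit 3) (alt96.finOK (nat_lit 3) (Tr.get3 alt96_Q1 (nat_lit 3) (nat_lit 8)) (nat_lit 1)) = true := by
  decide +kernel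

theorem alt96_blocks : ∀ t < alt96.k, alt96.blockOK t = true :=
  (of_allFrom_append of_lt_zero alt96_b0)

/-- index 3 max 3 total 3 facts 4 | needed cosets 3 facts 4 steps 2 trivial 0 -/
theorem alt96_index {G : Type*} [Group G] {γ : ℕ → G} (hL : Lab γ altI9) (hr : ∀ t ∈ alt96_rels, t.ev γ = 1) {K : Subgroup G}
    (hK : ∀ t ∈ ([] : List W), t.ev γ ∈ K) :
    K.relIndex (genW γ [.l 1]) ≠ 0 ∧ K.relIndex (genW γ [.l 1]) ≤ 3 :=
  TC.relIndex_le (D := alt96) (gens := [1]) hL (List.forall_mem_cons.2 ⟨hL.zero_mem K, hK⟩) hr alt96_head alt96_blocks (by decide) (by decide)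
   (List.forall_mem_cons.2 ⟨⟨_, (of_allFrom_append of_lt_zero alt96_f1_0)⟩,
    fun _ h => absurd h List.not_mem_nil⟩)

theorem card_alt9 {G : Type*} [Group G] {γ : ℕ → G} (hL : Lab γ altI9) (hr : ∀ t ∈ altT9, t.ev γ = 1) :
    Nat.card (genW γ [.l 1, .l 3, .l 5, .l 7, .l 9, .l 11, .l 13]) ≠ 0 ∧ Nat.card (genW γ [.l 1, .l 3, .l 5, .l 7, .l 9, .l 11, .l 13]) ≤ 9 * (8 * (7 * (6 * (5 * (4 * (3 * (1))))))) :=
  (card_le_of_relIndex (K := genW γ [.l 1, .l 3, .l 5, .l 7, .l 9, .l 11]) (genW_le_of_subOK hL [] hr (by decide +kernel))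
    (alt90_index hL (rels_of_isIn hr (by decide +kernel)) fun _ => mem_genW γ)
    (card_le_of_relIndex (K := genW γ [.l 1, .l 3, .l 5, .l 7, .l 9]) (genW_le_of_subOK hL [] hr (by decide +kernel))
    (alt91_index hL (rels_of_isIn hr (by decide +kernel)) fun _ => mem_genW γ)
    (card_le_of_relIndex (K := genW γ [.l 1, .l 3, .l 5, .l 7]) (genW_le_of_subOK hL [] hr (by decide +kernel))
    (alt92_index hL (rels_of_isIn hr (by decide +kernel)) fun _ => mem_genW γ)
    (card_le_of_relIndex (K := genW γ [.l 1, .l 3, .l 5]) (genW_le_of_subOK hL [] hr (by decide +kernel))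
    (alt93_index hL (rels_of_isIn hr (by decide +kernel)) fun _ => mem_genW γ)
    (card_le_of_relIndex (K := genW γ [.l 1, .l 3]) (genW_le_of_subOK hL [] hr (by decide +kernel))
    (alt94_index hL (rels_of_isIn hr (by decide +kernel)) fun _ => mem_genW γ)
    (card_le_of_relIndex (K := genW γ [.l 1]) (genW_le_of_subOK hL [] hr (by decide +kernel))
    (alt95_index hL (rels_of_isIn hr (by decide +kernel)) fun _ => mem_genW γ)
    (card_le_of_relIndex bot_le (alt96_index hL (rels_of_isIn hr (by decide +kernel)) (by simp)) card_bot_le)))))))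
def altC9_C : ℕ := (nat_lit 0x76543281806543271870543261876043251876503241876540231876543021176543082276543180376540182476503182576043182670543182706543182852341670861730245814605237827510643836147250843157206801436275876142350874206513870534216873260514872360154875643120871642530876524310876241305876340152876145023876420153876042531876530214876512034876524031876504213876543102876542301876541320876540231876543102876543021876543210)
noncomputable def altC9_code : ℕ → ℕ := get (nat_lit 36) altC9_C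
def altC9_R0 : ℕ := (nat_lit 0x78a133418000020000c8e03000008000021c0800002000006402000008000000c040000200000010100000812b00441400001c2dac2e050000000004fdc0c00001c018c910400000703e9f4c1400001c2e910f050000077fe62c01800001c1008ab050000060b6b0501400001800f54c040000000789e3c140000180001a60200000600421b0100000181e202c0500000600002a808000017b4e1f006000005003d69810000014000809030000000004eb40c00001400006c0200000500011ac0c00001400044503000004e5d7630180000101e1cac0500000400010a80c0000100007e6030000000000118080000100008060300000400000900800000c0085100400000307a622c1400000c00042c03000003000209c0c00000c00004102000000000010c0800000c000002010000020b6b0b81400000800f54c0400000200020240c0000080007e60300000200001040800000800000000000000000000804000020000000000000070000000000000180000000000000500000000000001000000000000003000000000000008000001010000017fe62c0180000041e202c0500000100011ac0c00000400080603000001000010c0800000400000000000001)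
def altC9_D0 : ℕ := (nat_lit 0xfd812a91f880cbd71a5ca2180c0000000005c02000000000560200000000050020000000004a0200000000044020000000003e0200000000006020000000000000000000000000000000000000000000000000000000000000000000000000000000000000000000)
noncomputable def altC9_L0 : Lv :=
  ⟨(nat_lit 38), (nat_lit 45), (nat_lit 8), (nat_lit 9), (nat_lit 8), get (nat_lit 14) (nat_lit 0x7c0600184062018c064019406c01),
    fun l x => get (nat_lit 58) altC9_R0 (Nat.add (Nat.mul x (nat_lit 7)) (Nat.sub l (nat_lit 38))), get (nat_lit 52) altC9_D0⟩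
def altC9_R1 : ℕ := (nat_lit 0x50000000000006000000000000200000000000010000000000003b0da3050000075c7a205000004003a503000003076630400000100000000000000b7a50400000600c7303000002004de030000070000000000004b3f39050000000767e04000005)
def altC9_D1 : ℕ := (nat_lit 0x482012400b04ecbd9c140000006408000000581000000000200000006040000000c080000000000000000000)
noncomputable def altC9_L1 : Lv :=
  ⟨(nat_lit 29), (nat_lit 31), (nat_lit 7), (nat_lit 8), (nat_lit 7), get (nat_lit 13) (nat_lit 0x7407c03901d00ec07803801),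
    fun l x => get (nat_lit 52) altC9_R1 (Nat.add (Nat.mul x (nat_lit 2)) (Nat.sub l (nat_lit 29))), get (nat_lit 39) altC9_D1⟩
def altC9_R2 : ℕ := (nat_lit 0x5c80c000018000000000040000000000057380400000205c00c000010000000000000000000000080000000000600000000000c00000000005000000000016a7b04000001b2b41000000000000000003)
def altC9_D2 : ℕ := (nat_lit 0x4120108015800c0007808000a810000c020000e040000c080000000000000)
noncomputable def altC9_L2 : Lv :=
  ⟨(nat_lit 22), (nat_lit 24), (nat_lit 6), (nat_lit 7), (nat_lit 6), get (nat_lit 13) (nat_lit 0x2403601a00cc06203501),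
    fun l x => get (nat_lit 46) altC9_R2 (Nat.add (Nat.mul x (nat_lit 2)) (Nat.sub l (nat_lit 22))), get (nat_lit 27) altC9_D2⟩
def altC9_R3 : ℕ := (nat_lit 0xf01000002800000000094406000004ac030000040000000002000000000047c0400000600000000031a810000008000000000250060000000000000005)
def altC9_D3 : ℕ := (nat_lit 0x9d16bd82b23d2c3830f00000004008000000080200000001c080000000302000000000000000000000)
noncomputable def altC9_L3 : Lv :=
  ⟨(nat_lit 15), (nat_lit 17), (nat_lit 5), (nat_lit 6), (nat_lit 5), get (nat_lit 12) (nat_lit 0xc01e01f01d01b01),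
    fun l x => get (nat_lit 41) altC9_R3 (Nat.add (Nat.mul x (nat_lit 2)) (Nat.sub l (nat_lit 15))), get (nat_lit 42) altC9_D3⟩
def altC9_R4 : ℕ := (nat_lit 0x3000000001000000000000000002401000002401000000101000001101000003000000004b02000004)
def altC9_D4 : ℕ := (nat_lit 0xc381960384104050d0000000080000010200000000000000000)
noncomputable def altC9_L4 : Lv :=
  ⟨(nat_lit 9), (nat_lit 11), (nat_lit 4), (nat_lit 5), (nat_lit 4), get (nat_lit 12) (nat_lit 176024965879553),
    fun l x => get (nat_lit 36) altC9_R4 (Nat.add (Nat.mul x (nat_lit 2)) (Nat.sub l (nat_lit 9))), get (nat_lit 34) altC9_D4⟩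
def altC9_R5 : ℕ := (nat_lit 0x80400000c00000002000000004000000038040000000000000040400000800000001)
noncomputable def altC9_L5 : Lv :=
  ⟨(nat_lit 5), (nat_lit 7), (nat_lit 3), (nat_lit 4), (nat_lit 3), get (nat_lit 11) (nat_lit 5375003393),
    fun l x => get (nat_lit 34) altC9_R5 (Nat.add (Nat.mul x (nat_lit 2)) (Nat.sub l (nat_lit 5))), get (nat_lit 27) (nat_lit 0x454110a0000e0400008080000000000000)⟩
noncomputable def altC9_L6 : Lv :=
  ⟨(nat_lit 2), (nat_lit 3), (nat_lit 2), (nat_lit 3), (nat_lit 2), get (nat_lit 10) (nat_lit 525569),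
    fun l x => get (nat_lit 2) (nat_lit 18) (Nat.add (Nat.mul x (nat_lit 1)) (Nat.sub l (nat_lit 2))), get (nat_lit 2) (nat_lit 8)⟩
noncomputable def altC9_lvs : List Lv := [altC9_L0, altC9_L1, altC9_L2, altC9_L3, altC9_L4, altC9_L5, altC9_L6]

theorem altC9_ok : chainOK (apT (nat_lit 9) (nat_lit 4) altC9_code) (imgT (nat_lit 4)) altC9_code (idc (nat_lit 9) (nat_lit 4)) (nat_lit 9) altC9_lvs = true := by
  decide +kernel

theorem altC9_eng {G X : Type*} [Group G] [MulAction G X] {pt : ℕ → X} (hf : Faithful G 9 pt) :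
    Eng (G := G) (Rep 9 4 pt) (idc (nat_lit 9) (nat_lit 4)) altC9_code (apT (nat_lit 9) (nat_lit 4) altC9_code) (topC altC9_lvs) :=
  eng_perm (by decide) (by decide) hf _ _

/-- order 181440, base [8, 7, 6, 5, 4, 3, 2], orbit lengths [9, 8, 7, 6, 5, 4, 3] -/
theorem altC9_chain {G X : Type*} [Group G] [MulAction G X] {pt : ℕ → X} (hi : Inj 9 pt) (hf : Faithful G 9 pt)
    {gs : List G} (h : List.Forall₂ (Rep 9 4 pt) gs [36344967201, 36344955441, 36344705601, 36339724881, 36244304481, 34465919601, 1985229441]) :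
    Chain (Rep 9 4 pt) altC9_code pt altC9_lvs (Subgroup.closure {s | s ∈ gs}) :=
  (altC9_eng hf).chain_list (img_rep hi) le_rfl h (by decide +kernel) (.of_chainOK altC9_ok)

theorem altC9_ord : ordL altC9_lvs = 181440 := by decide +kernel

/-- The relators of the alternating group of degree 9. -/
def altR9 : List W := [.pow (.l 0) 3, .pow (.l 1) 3, .pow (.l 2) 3, .pow (.l 3) 3, .pow (.l 4) 3, .pow (.l 5) 3, .pow (.l 6) 3, .pow (.mul (.l 0) (.l 1)) 2, .pow (.mul (.l 0) (.l 2)) 2, .pow (.mul (.l 0) (.l 3)) 2, .pow (.mul (.l 0) (.l 4)) 2, .pow (.mul (.l 0) (.l 5)) 2, .pow (.mul (.l 0) (.l 6)) 2, .pow (.mul (.l 1) (.l 2)) 2, .pow (.mul (.l 1) (.l 3)) 2, .pow (.mul (.l 1) (.l 4)) 2, .pow (.mul (.l 1) (.l 5)) 2, .pow (.mul (.l 1) (.l 6)) 2, .pow (.mul (.l 2) (.l 3)) 2, .pow (.mul (.l 2) (.l 4)) 2, .pow (.mul (.l 2) (.l 5)) 2, .pow (.mul (.l 2) (.l 6)) 2, .pow (.mul (.l 3) (.l 4)) 2, .pow (.mul (.l 3) (.l 5)) 2, .pow (.mul (.l 3) (.l 6)) 2, .pow (.mul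 (.l 4) (.l 5)) 2, .pow (.mul (.l 4) (.l 6)) 2, .pow (.mul (.l 5) (.l 6)) 2]

/-- Letters with inverses. -/
def altL9 {Q : Type*} [Group Q] (x : ℕ → Q) (c : ℕ) : Q := (1 :: [x 0, (x 0)⁻¹, x 1, (x 1)⁻¹, x 2, (x 2)⁻¹, x 3, (x 3)⁻¹, x 4, (x 4)⁻¹, x 5, (x 5)⁻¹, x 6, (x 6)⁻¹]).getD c 1

theorem altL9_lab {Q : Type*} [Group Q] (x : ℕ → Q) : Lab (altL9 x) altI9 := by
  refine Lab.of_list (show altI9 < 2 ^ (5 * 15) by decide +kernel) fun c hc => ?_
  change c < 15 at hc
  interval_cases c <;> first | exact mul_one _ | exact inv_mul_cancel _ | exact mul_inv_cancel _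

theorem altL9_rels {Q : Type*} [Group Q] {x : ℕ → Q} (hr : ∀ t ∈ altR9, t.ev x = 1) :
    ∀ t ∈ altT9, t.ev (altL9 x) = 1 := by
  simp only [altR9, altT9, List.forall_mem_cons, List.not_mem_nil, false_imp_iff, imp_true_iff] at hr ⊢
  exact hr

theorem exists_alt9 {Q : Type*} [Group Q] {x : ℕ → Q} (hr : ∀ t ∈ altR9, t.ev x = 1) (h0 : x 0 ≠ 1) :
    ∃ φ : alternatingGroup (Fin 9) →* Q, Function.Injective φ := by
  let y : ℕ → Equiv.Perm (Fin 9) := fun i => Equiv.swap 0 (finPt 9 (i + 2)) * Equiv.swap 0 1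
  have h1 : ∀ t ∈ altR9, t.ev y = 1 := by decide +kernel
  have h2 : Nat.card (genW (altL9 y) [.l 1, .l 3, .l 5, .l 7, .l 9, .l 11, .l 13]) = 181440 := by
    rw [genW_eq_closure]
    refine (altC9_chain (inj_finPt 9) (faithful_finPt 9) ?_).card.trans altC9_ord
    simp only [List.map, List.forall₂_cons, List.forall₂_nil_left_iff, and_true, Calc.Rep]
    decide +kernel
  have h3 : genW (altL9 y) [.l 1, .l 3, .l 5, .l 7, .l 9, .l 11, .l 13] = alternatingGroup (Fin 9) :=
    Subgroup.eq_of_le_of_card_ge (genW_le.2 (by simp only [Equiv.Perm.mem_alternatingGroup]; decide +kernel)) (by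
      have := two_mul_nat_card_alternatingGroup (α := Fin 9)
      rw [Nat.card_perm, Nat.card_fin, show Nat.factorial 9 = 2 * 181440 from rfl] at this
      omega)
  obtain ⟨φ, -, h⟩ := exists_hom_of_card_le (γ := altL9 y) (γ' := altL9 x) rfl rfl (card_alt9 ((altL9_lab y).prod (altL9_lab x))
    fun t k => by rw [W.ev_prod, altL9_rels h1 t k, altL9_rels hr t k]; rfl) h2.ge
  have := alternatingGroup.isSimpleGroup (α := Fin 9) (by simp)
  let ψ := φ.comp (MulEquiv.subgroupCongr h3).symm.toMonoidHom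
  refine ⟨ψ, (MonoidHom.ker_eq_bot_iff ψ).1 (ψ.normal_ker.eq_bot_or_eq_top.resolve_right fun e => h0 ?_)⟩
  have k : (W.l 1).ev (altL9 y) ∈ genW (altL9 y) [.l 1, .l 3, .l 5, .l 7, .l 9, .l 11, .l 13] := mem_genW _ List.mem_cons_self
  exact (h (.l 1) k rfl).symm.trans (e ▸ Subgroup.mem_top _ : (⟨_, h3 ▸ k⟩ : alternatingGroup _) ∈ ψ.ker)

end Cfsg.Lib.Big
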