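import Cfsg.Agent.Lib.Big.Extra
import Cfsg.Agent.Lib.Grp.Hom

/-! # Homomorphisms from a permutation group into a group with an engine -/

set_option autoImplicit false

namespace Cfsg.Lib.Big

open Cfsg.Lib.Calc Cfsg.Lib.F2 Subgroup

/-- a table and a code in one number -/
def prC (B c C : ℕ) : ℕ := Nat.add c (Nat.shiftLeft C B)

theorem prC_spec {B c : ℕ} (h : c < 2 ^ B) (C : ℕ) :
    Nat.land (prC B c C) (msk B) = c ∧ Nat.shiftRight (prC B c C) B = C := by
  rw [land_msk, shr_eq, show prC B c C = c + C * 2 ^ B from congrArg _ (shl_eq C B)]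
  exact ⟨by rw [Nat.add_mul_mod_self_right, Nat.mod_eq_of_lt h],
    by rw [Nat.add_mul_div_right _ _ (by positivity), Nat.div_eq_of_lt h, zero_add]⟩

/-- the product of tables and codes -/
noncomputable def Eng.prod (E : Eng) (n w : ℕ) : Eng :=
  ⟨0, fun _ _ _ => 0, fun s t => forceN (Nat.mul w n) fun B => forceN s fun s => forceN t fun t =>
    forceN (Nat.land s (msk B)) fun a => forceN (Nat.land t (msk B)) fun b =>
      prC B (Calc.mul n w a b) (E.mul (Nat.shiftRight s B) (Nat.shiftRight t B)),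
    prC (Nat.mul w n) (idc n w) E.one, fun _ => true⟩

/-- The check of a chain for the graph; the labels are computed by the program. -/
noncomputable def Eng.homOK (E : Eng) (n w : ℕ) (cs Cs prog ix : List ℕ) (l : List Calc.Lv) : Bool :=
  band (band (Nat.ble n (2 ^ w)) (Nat.beq cs.length Cs.length))
    ((E.prod n w).slp (List.zipWith (prC (Nat.mul w n)) cs Cs) prog fun L =>
      (fun code : ℕ → ℕ => band
        (leq ((List.range' (topA l) (topC l - topA l)).map code) (List.zipWith (prC (Nat.mul w n)) cs Cs))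
        (chainOK (fun s j => (E.prod n w).mul s (code j)) (fun i s => get w (Nat.land s (msk (Nat.mul w n))) i) code
          (E.prod n w).one n l)) fun j => F2.nth (E.prod n w).one L (Calc.nth ix j))

theorem Eng.exists_slp {E : Eng} {L prog : List ℕ} {k : List ℕ → Bool} (h : E.slp L prog k = true) :
    ∃ L', k L' = true := by
  induction prog generalizing L with
  | nil => exact ⟨L, h⟩
  | cons t prog ih =>
    change forceB _ (fun v => E.slp (v :: L) prog k) = true at h
    rw [forceB_eq] at h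
    exact ih h

variable {A G X : Type*} [Group A] [Group G] [MulAction A X] {E : Eng} {R : G → ℕ → Prop} {n w : ℕ} {pt : ℕ → X}

omit [Group A] [Group G] in
theorem forall₂_zip {B : ℕ} {P : A → ℕ → Prop} {as : List A} {gs : List G} {cs Cs : List ℕ} (hP : ∀ a c, P a c → c < 2 ^ B)
    (h : List.Forall₂ P as cs) (h' : List.Forall₂ R gs Cs) (e : cs.length = Cs.length) :
    List.Forall₂ (fun (p : A × G) s => P p.1 (Nat.land s (msk B)) ∧ R p.2 (Nat.shiftRight s B)) (as.zip gs)
      (List.zipWith (prC B) cs Cs) := by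
  induction h generalizing gs Cs with
  | nil => simp
  | cons a _ ih =>
    cases h' with
    | nil => simp at e
    | cons b h' =>
      exact .cons ⟨(prC_spec (hP _ _ a) _).1.symm ▸ a, (prC_spec (hP _ _ a) _).2.symm ▸ b⟩ (ih h' (by simpa using e))

theorem Eng.Laws.exists_hom [Finite A] (hE : E.Laws R) (hi : Inj n pt) (hf : Faithful A n pt) {as : List A}
    {gs : List G} {cs Cs prog ix : List ℕ} {l : List Calc.Lv} (h : List.Forall₂ (Rep n w pt) as cs)
    (h' : List.Forall₂ R gs Cs) (ok : E.homOK n w cs Cs prog ix l = true) (hN : Nat.card A ≤ ordL l) :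
    ∃ f : A →* G, as.map f = gs ∧ f.range = closure {g | g ∈ gs} := by
  obtain ⟨h1, h2⟩ := band_eq_true.1 ok
  obtain ⟨hw, e⟩ := band_eq_true.1 h1
  obtain ⟨L, h3⟩ := Eng.exists_slp h2
  obtain ⟨h4, h5⟩ := band_eq_true.1 h3
  generalize (fun j => F2.nth (E.prod n w).one L (Calc.nth ix j)) = code at h4 h5
  let _ : MulAction (A × G) X := MulAction.compHom X (MonoidHom.fst A G)
  let P := fun (p : A × G) s => Rep n w pt p.1 (Nat.land s (msk (w * n))) ∧ R p.2 (Nat.shiftRight s (w * n))
  have k : ∀ {a g c C}, Rep n w pt a c → R g C → P (a, g) (prC (w * n) c C) := fun a b =>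
    ⟨(prC_spec a.1 _).1.symm ▸ a, (prC_spec a.1 _).2.symm ▸ b⟩
  have E1 : Calc.Eng P (E.prod n w).one code (fun s j => (E.prod n w).mul s (code j)) (topC l) :=
    ⟨k (Rep.one (ble_iff.1 hw)) hE.one, fun _ a b => by
      simp only [Eng.prod, forceN_eq]; exact k (a.1.mul b.1) (hE.mul a.2 b.2),
      fun a b => Prod.ext (a.1.eq_of_faithful hf b.1) (hE.uniq a.2 b.2)⟩
  have C := E1.chain_list (pt := pt) (fun hi' a b => a.1.smul_eq_smul_iff hi b.1 hi') le_rfl
    (forall₂_zip (fun _ _ a => a.1) h h' (beq_iff.1 e)) (eq_of_leq h4) (.of_chainOK h5)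
  obtain ⟨f, hf'⟩ := Grp.exists_hom_of_graph (K := ⊤) (D := closure {s | s ∈ as.zip gs}) (fun g hg => congrArg Prod.snd
    (Grp.eq_one_of_chainRes C.res (C.eq ▸ hg) fun _ _ => one_smul A _)) (fun _ _ => mem_top _)
    (by rwa [card_top, C.card])
  have e' : as.length = gs.length := h.length_eq.trans ((beq_iff.1 e).trans h'.length_eq.symm)
  have k2 : as.map (f.comp topEquiv.symm.toMonoidHom) = gs :=
    List.ext_getElem (by simpa using e') fun i h1 h2 => by
      rw [List.getElem_map]
      exact (hf' _ _).2 (subset_closure (List.mem_iff_getElem.2 ⟨i, by simp at h1; simp; omega, by simp⟩))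
  refine ⟨_, k2, le_antisymm ?_ ((closure_le _).2 fun g hg => ?_)⟩
  · rintro _ ⟨a, rfl⟩
    exact (closure_le ((closure {g | g ∈ gs}).comap (MonoidHom.snd A G))).2
      (fun p hp => subset_closure (List.of_mem_zip hp).2) ((hf' ⟨a, mem_top a⟩ _).1 rfl)
  · obtain ⟨a, -, rfl⟩ := List.mem_map.1 (k2 ▸ hg : g ∈ as.map _)
    exact ⟨a, rfl⟩

omit [Group A] in
theorem exists_forall₂ {P : A → ℕ → Prop} {cs : List ℕ} (h : ∀ c ∈ cs, ∃ a, P a c) : ∃ as, List.Forall₂ P as cs := by
  induction cs with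
  | nil => exact ⟨[], .nil⟩
  | cons c cs ih =>
    obtain ⟨a, ha⟩ := h c List.mem_cons_self
    obtain ⟨as, has⟩ := ih fun c hc => h c (List.mem_cons_of_mem _ hc)
    exact ⟨a :: as, .cons ha has⟩

theorem Eng.Laws.closure_eq_gen (hE : E.Laws R) {gs : List G} {Cs : List ℕ} (h : List.Forall₂ R gs Cs) :
    closure {g | g ∈ gs} = gen R Cs := by
  refine congrArg Subgroup.closure (Set.ext fun g => ⟨fun hg => ?_, fun ⟨C, hC, e⟩ => ?_⟩)
  · obtain ⟨i, hi, rfl⟩ := List.getElem_of_mem hg
    exact ⟨_, List.get_mem _ _, h.get hi (h.length_eq ▸ hi)⟩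
  · obtain ⟨i, hi, rfl⟩ := List.getElem_of_mem hC
    exact hE.uniq (h.get (h.length_eq ▸ hi) hi) e ▸ List.get_mem _ _

/-- The generators are given by their codes only. -/
theorem Eng.Laws.exists_hom' [Finite A] (hE : E.Laws R) (hi : Inj n pt) (hf : Faithful A n pt) {cs Cs prog ix : List ℕ}
    {l : List Calc.Lv} (h : ∀ c ∈ cs, ∃ a : A, Rep n w pt a c) (h' : ∀ C ∈ Cs, ∃ g, R g C)
    (ok : E.homOK n w cs Cs prog ix l = true) (hN : Nat.card A ≤ ordL l) : ∃ f : A →* G, f.range = gen R Cs := by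
  obtain ⟨as, ha⟩ := exists_forall₂ h
  obtain ⟨gs, hg⟩ := exists_forall₂ h'
  obtain ⟨f, -, e⟩ := hE.exists_hom hi hf ha hg ok hN
  exact ⟨f, e.trans (hE.closure_eq_gen hg)⟩

end Cfsg.Lib.Big
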